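import Mathlib
import Cfsg.Agent.Lib.Helper5.SLnBN2

set_option autoImplicit false

/-!
The special unitary group of the antidiagonal Hermitian form on `F^n`, where `F` is a field with
an involution `star`: the adjoint, the formula for the entries of an inverse, and the upper
triangular subgroup.
-/

namespace Cfsg.Agent.Lib.Helper5.SUBN

open Matrix Cfsg.Agent.Lib.Helper5.SLnBN

section
variable {n : ℕ}

/-- The order reversing involution of the index set. -/
def th : Equiv.Perm (Fin n) := Fin.revPerm

theorem th_apply (a : Fin n) : th a = Fin.rev a := rfl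

@[simp] theorem th_th (a : Fin n) : th (th a) = a := Fin.rev_rev a

theorem th_lt_th {a b : Fin n} : th a < th b ↔ b < a := Fin.rev_lt_rev

theorem th_le_th {a b : Fin n} : th a ≤ th b ↔ b ≤ a := Fin.rev_le_rev

theorem th_val (a : Fin n) : (th a).val = n - 1 - a.val := by
  rw [th_apply, Fin.val_rev]
  omega

theorem th_inv : (th : Equiv.Perm (Fin n))⁻¹ = th := by
  ext a
  rw [Equiv.Perm.inv_def]
  apply congrArg Fin.val
  apply th.injective
  rw [Equiv.apply_symm_apply, th_th]

theorem th_injective : Function.Injective (th : Fin n → Fin n) := th.injective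

theorem th_eq_iff {a b : Fin n} : th a = b ↔ a = th b := by
  constructor
  · rintro rfl
    rw [th_th]
  · rintro rfl
    rw [th_th]

/-- A permutation that does not increase the indices is the identity. -/
theorem perm_eq_one_of_le (σ : Equiv.Perm (Fin n)) (h : ∀ a, σ a ≤ a) : σ = 1 :=
  SLnBN.perm_eq_one_of_le σ h

end

section
variable {n : ℕ} {F : Type*} [Field F] [StarRing F]

/-- The adjoint with respect to the antidiagonal Hermitian form. -/
def adj (M : Matrix (Fin n) (Fin n) F) : Matrix (Fin n) (Fin n) F :=
  fun a b => star (M (th b) (th a))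

theorem adj_apply (M : Matrix (Fin n) (Fin n) F) (a b : Fin n) :
    adj M a b = star (M (th b) (th a)) := rfl

theorem adj_mul (M N : Matrix (Fin n) (Fin n) F) : adj (M * N) = adj N * adj M := by
  ext a b
  rw [adj_apply, Matrix.mul_apply, Matrix.mul_apply, star_sum, ← Equiv.sum_comp th]
  apply Finset.sum_congr rfl
  intro c _
  rw [adj_apply, adj_apply, star_mul']
  ring

theorem adj_one : adj (1 : Matrix (Fin n) (Fin n) F) = 1 := by
  ext a b
  rw [adj_apply, Matrix.one_apply, Matrix.one_apply]
  by_cases h : a = b
  · subst h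
    rw [if_pos rfl, if_pos rfl, star_one]
  · rw [if_neg h, if_neg, star_zero]
    intro e
    exact h (th.injective e).symm

theorem adj_adj (M : Matrix (Fin n) (Fin n) F) : adj (adj M) = M := by
  ext a b
  rw [adj_apply, adj_apply, th_th, th_th, star_star]

/-- The special unitary group of the antidiagonal Hermitian form. -/
def UG (n : ℕ) (F : Type*) [Field F] [StarRing F] : Subgroup (SpecialLinearGroup (Fin n) F) where
  carrier := {g | (g : Matrix (Fin n) (Fin n) F) * adj (g : Matrix (Fin n) (Fin n) F) = 1}
  mul_mem' := by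
    intro g h hg hh
    show ((g * h : SpecialLinearGroup (Fin n) F) : Matrix (Fin n) (Fin n) F) * adj _ = 1
    rw [Matrix.SpecialLinearGroup.coe_mul, adj_mul, Matrix.mul_assoc,
      ← Matrix.mul_assoc (h : Matrix (Fin n) (Fin n) F), hh, Matrix.one_mul, hg]
  one_mem' := by
    show ((1 : SpecialLinearGroup (Fin n) F) : Matrix (Fin n) (Fin n) F) * adj _ = 1
    rw [Matrix.SpecialLinearGroup.coe_one, adj_one, Matrix.one_mul]
  inv_mem' := by
    intro g hg
    have hg' : (g : Matrix (Fin n) (Fin n) F) * adj (g : Matrix (Fin n) (Fin n) F) = 1 := hg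
    have h1 : ((g⁻¹ : SpecialLinearGroup (Fin n) F) : Matrix (Fin n) (Fin n) F)
        = adj (g : Matrix (Fin n) (Fin n) F) := by
      have h2 : ((g⁻¹ : SpecialLinearGroup (Fin n) F) : Matrix (Fin n) (Fin n) F)
          * (g : Matrix (Fin n) (Fin n) F) = 1 := by
        rw [← Matrix.SpecialLinearGroup.coe_mul, inv_mul_cancel, Matrix.SpecialLinearGroup.coe_one]
      calc ((g⁻¹ : SpecialLinearGroup (Fin n) F) : Matrix (Fin n) (Fin n) F)
          = ((g⁻¹ : SpecialLinearGroup (Fin n) F) : Matrix (Fin n) (Fin n) F)
            * ((g : Matrix (Fin n) (Fin n) F) * adj (g : Matrix (Fin n) (Fin n) F)) := by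
            rw [hg', Matrix.mul_one]
        _ = adj (g : Matrix (Fin n) (Fin n) F) := by
            rw [← Matrix.mul_assoc, h2, Matrix.one_mul]
    show ((g⁻¹ : SpecialLinearGroup (Fin n) F) : Matrix (Fin n) (Fin n) F) * adj _ = 1
    rw [h1, adj_adj]
    exact mul_eq_one_comm.1 hg'

/-- The special unitary group as a type. -/
abbrev UGt (n : ℕ) (F : Type*) [Field F] [StarRing F] := ↥(UG n F)

/-- The matrix of an element. -/
def mat (g : UGt n F) : Matrix (Fin n) (Fin n) F :=
  ((g : SpecialLinearGroup (Fin n) F) : Matrix (Fin n) (Fin n) F)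

theorem mat_mul (g h : UGt n F) : mat (g * h) = mat g * mat h := rfl

theorem mat_one : mat (1 : UGt n F) = 1 := rfl

theorem mat_injective : Function.Injective (mat : UGt n F → Matrix (Fin n) (Fin n) F) := by
  intro g h e
  apply Subtype.ext
  apply Subtype.ext
  exact e

theorem mat_mul_adj (g : UGt n F) : mat g * adj (mat g) = 1 := g.2

theorem adj_mul_mat (g : UGt n F) : adj (mat g) * mat g = 1 := mul_eq_one_comm.1 g.2

theorem det_mat (g : UGt n F) : (mat g).det = 1 := g.1.2

theorem mat_inv_mul (g : UGt n F) : mat g⁻¹ * mat g = 1 := by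
  rw [← mat_mul, inv_mul_cancel, mat_one]

theorem mat_mul_inv (g : UGt n F) : mat g * mat g⁻¹ = 1 := by
  rw [← mat_mul, mul_inv_cancel, mat_one]

theorem mat_inv (g : UGt n F) : mat g⁻¹ = adj (mat g) := by
  calc mat g⁻¹ = mat g⁻¹ * (mat g * adj (mat g)) := by rw [mat_mul_adj, Matrix.mul_one]
    _ = adj (mat g) := by rw [← Matrix.mul_assoc, mat_inv_mul, Matrix.one_mul]

/-- The entries of the inverse of a unitary matrix. -/
theorem inv_apply (g : UGt n F) (a b : Fin n) : mat g⁻¹ a b = star (mat g (th b) (th a)) := by
  rw [mat_inv, adj_apply]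

theorem mat_pow (g : UGt n F) (k : ℕ) : mat (g ^ k) = mat g ^ k := by
  induction k with
  | zero => rw [pow_zero, pow_zero, mat_one]
  | succ k ih => rw [pow_succ, pow_succ, mat_mul, ih]

/-- The element with a given matrix. -/
def mk (M : Matrix (Fin n) (Fin n) F) (hdet : M.det = 1) (hM : M * adj M = 1) : UGt n F :=
  ⟨⟨M, hdet⟩, hM⟩

theorem mat_mk (M : Matrix (Fin n) (Fin n) F) (hdet : M.det = 1) (hM : M * adj M = 1) :
    mat (mk M hdet hM) = M := rfl

/-- Upper triangular matrices. -/
def Upper (M : Matrix (Fin n) (Fin n) F) : Prop := ∀ a b : Fin n, b < a → M a b = 0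

theorem upper_iff (M : Matrix (Fin n) (Fin n) F) : Upper M ↔ M.BlockTriangular id :=
  ⟨fun h a b hab => h a b hab, fun h a b hab => h hab⟩

theorem Upper.mul {M N : Matrix (Fin n) (Fin n) F} (hM : Upper M) (hN : Upper N) :
    Upper (M * N) := by
  rw [upper_iff] at *
  exact hM.mul hN

theorem upper_one : Upper (1 : Matrix (Fin n) (Fin n) F) := by
  intro a b hab
  exact Matrix.one_apply_ne (ne_of_gt hab)

theorem Upper.adj {M : Matrix (Fin n) (Fin n) F} (hM : Upper M) : Upper (adj M) := by
  intro a b hab
  rw [adj_apply, hM _ _ (th_lt_th.2 hab), star_zero]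

/-- The diagonal of a product of triangular matrices. -/
theorem tri_mul_diag {M N : Matrix (Fin n) (Fin n) F} (hM : Upper M) (hN : Upper N) (a : Fin n) :
    (M * N) a a = M a a * N a a := by
  rw [Matrix.mul_apply, Finset.sum_eq_single a]
  · intro c _ hc
    rcases lt_or_gt_of_ne hc with h | h
    · rw [hM a c h, zero_mul]
    · rw [hN c a h, mul_zero]
  · intro h
    exact absurd (Finset.mem_univ _) h

/-- The entry of a product of triangular matrices just above the diagonal. -/
theorem tri_mul_super {M N : Matrix (Fin n) (Fin n) F} (hM : Upper M) (hN : Upper N)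
    {a b : Fin n} (hab : b.val = a.val + 1) :
    (M * N) a b = M a a * N a b + M a b * N b b := by
  have hne : a ≠ b := by
    intro e
    rw [e] at hab
    omega
  rw [Matrix.mul_apply, Finset.sum_eq_add a b hne]
  · intro c _ hc
    have h1 : c.val ≠ a.val := fun e => hc.1 (Fin.ext e)
    have h2 : c.val ≠ b.val := fun e => hc.2 (Fin.ext e)
    by_cases h : c < a
    · rw [hM a c h, zero_mul]
    · have h' : b < c := by
        rw [Fin.lt_def] at h ⊢
        omega
      rw [hN c b h', mul_zero]
  · intro h
    exact absurd (Finset.mem_univ _) h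
  · intro h
    exact absurd (Finset.mem_univ _) h

/-- The upper triangular subgroup. -/
def borel (n : ℕ) (F : Type*) [Field F] [StarRing F] : Subgroup (UGt n F) where
  carrier := {g | Upper (mat g)}
  mul_mem' := by
    intro g h hg hh
    exact Upper.mul hg hh
  one_mem' := upper_one
  inv_mem' := by
    intro g hg
    show Upper (mat g⁻¹)
    rw [mat_inv]
    exact Upper.adj hg

theorem mem_borel (g : UGt n F) : g ∈ borel n F ↔ Upper (mat g) := Iff.rfl

theorem borel_apply {g : UGt n F} (hg : g ∈ borel n F) {a b : Fin n} (h : b < a) :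
    mat g a b = 0 := hg a b h

theorem borel_diag_mul_inv {g : UGt n F} (hg : g ∈ borel n F) (a : Fin n) :
    mat g a a * mat g⁻¹ a a = 1 := by
  rw [← tri_mul_diag hg ((borel n F).inv_mem hg), mat_mul_inv, Matrix.one_apply_eq]

theorem borel_diag_ne_zero {g : UGt n F} (hg : g ∈ borel n F) (a : Fin n) : mat g a a ≠ 0 := by
  intro h
  have := borel_diag_mul_inv hg a
  rw [h, zero_mul] at this
  exact zero_ne_one this

/-- The diagonal entries of an upper triangular unitary matrix at paired indices. -/
theorem borel_diag_mul_th {g : UGt n F} (hg : g ∈ borel n F) (a : Fin n) :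
    mat g a a * star (mat g (th a) (th a)) = 1 := by
  have := borel_diag_mul_inv hg a
  rw [inv_apply] at this
  exact this

/-- If an entry just above the diagonal vanishes, so does the mirrored entry. -/
theorem borel_super_zero {g : UGt n F} (hg : g ∈ borel n F) {a b : Fin n}
    (hab : b.val = a.val + 1) (h0 : mat g a b = 0) : mat g (th b) (th a) = 0 := by
  have h1 := tri_mul_super hg ((borel n F).inv_mem hg) hab
  rw [mat_mul_inv, h0, zero_mul, add_zero, Matrix.one_apply_ne] at h1
  · have h2 : mat g⁻¹ a b = 0 := by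
      rcases mul_eq_zero.1 h1.symm with h | h
      · exact absurd h (borel_diag_ne_zero hg a)
      · exact h
    rw [inv_apply] at h2
    exact star_eq_zero.1 h2
  · intro e
    rw [e] at hab
    omega

/-- The row relations of a unitary matrix. -/
theorem row_rel (g : UGt n F) (k l : Fin n) :
    ∑ m, mat g k m * star (mat g (th l) (th m)) = if k = l then 1 else 0 := by
  have h := congrFun (congrFun (mat_mul_adj g) k) l
  rw [Matrix.mul_apply, Matrix.one_apply] at h
  exact h

/-- The column relations of a unitary matrix. -/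
theorem col_rel (g : UGt n F) (k l : Fin n) :
    ∑ m, star (mat g (th m) (th k)) * mat g m l = if k = l then 1 else 0 := by
  have h := congrFun (congrFun (adj_mul_mat g) k) l
  rw [Matrix.mul_apply, Matrix.one_apply] at h
  exact h

end

end Cfsg.Agent.Lib.Helper5.SUBN
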