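import Mathlib
import Cfsg.Agent.Lib.Helper5.SUBN.Basic

set_option autoImplicit false

/-!
The monomial subgroup, the diagonal subgroup and the unitriangular subgroup of the unitary group.
-/

namespace Cfsg.Agent.Lib.Helper5.SUBN

open Matrix Cfsg.Agent.Lib.Helper5.SLnBN

section
variable {n : ℕ} {F : Type*} [Field F] [StarRing F]

theorem mono_inv {g : UGt n F} {σ : Equiv.Perm (Fin n)}
    (hσ : IsMono (mat g) σ) (hc : ∀ a, σ (th a) = th (σ a)) : IsMono (mat g⁻¹) σ⁻¹ := by
  intro i j hij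
  rw [inv_apply, hσ (th j) (th i), star_zero]
  intro e
  apply hij
  rw [hc] at e
  have := th.injective e
  rw [this]
  simp

theorem perm_inv_comm {σ : Equiv.Perm (Fin n)} (hc : ∀ a, σ (th a) = th (σ a)) (a : Fin n) :
    σ⁻¹ (th a) = th (σ⁻¹ a) := by
  apply σ.injective
  rw [hc]
  simp

/-- The subgroup of monomial matrices whose permutation commutes with the pairing. -/
def mono (n : ℕ) (F : Type*) [Field F] [StarRing F] : Subgroup (UGt n F) where
  carrier := {g | ∃ σ : Equiv.Perm (Fin n), IsMono (mat g) σ ∧ ∀ a, σ (th a) = th (σ a)}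
  mul_mem' := by
    rintro g h ⟨σ, hσ, hσc⟩ ⟨τ, hτ, hτc⟩
    refine ⟨σ * τ, hσ.mul hτ, fun a => ?_⟩
    rw [Equiv.Perm.mul_apply, Equiv.Perm.mul_apply, hτc, hσc]
  one_mem' := ⟨1, IsMono.one, fun a => rfl⟩
  inv_mem' := by
    rintro g ⟨σ, hσ, hσc⟩
    exact ⟨σ⁻¹, mono_inv hσ hσc, perm_inv_comm hσc⟩

theorem mem_mono (g : UGt n F) : g ∈ mono n F ↔
    ∃ σ : Equiv.Perm (Fin n), IsMono (mat g) σ ∧ ∀ a, σ (th a) = th (σ a) := Iff.rfl

theorem mono_apply_ne_zero {g : UGt n F} {σ : Equiv.Perm (Fin n)} (hσ : IsMono (mat g) σ)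
    (b : Fin n) : mat g (σ b) b ≠ 0 := by
  intro h0
  have h1 := congrFun (congrFun (mat_inv_mul g) b) b
  rw [Matrix.mul_apply, Matrix.one_apply_eq, Finset.sum_eq_zero] at h1
  · exact zero_ne_one h1
  · intro c _
    by_cases hc : c = σ b
    · rw [hc, h0, mul_zero]
    · rw [hσ c b hc, mul_zero]

theorem perm_eq_one_of_borel {g : UGt n F} (hg : g ∈ borel n F) {σ : Equiv.Perm (Fin n)}
    (hσ : IsMono (mat g) σ) : σ = 1 := by
  apply perm_eq_one_of_le
  intro a
  by_contra h
  exact mono_apply_ne_zero hσ a (hg _ _ (not_le.1 h))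

theorem mono_unique {g : UGt n F} {σ τ : Equiv.Perm (Fin n)} (hσ : IsMono (mat g) σ)
    (hτ : IsMono (mat g) τ) : σ = τ := by
  ext b
  by_contra h
  exact mono_apply_ne_zero hσ b (hτ (σ b) b (fun e => h (congrArg Fin.val e)))

/-- The permutation of a monomial unitary matrix commutes with the pairing. -/
theorem mono_comm {g : UGt n F} {σ : Equiv.Perm (Fin n)} (hσ : IsMono (mat g) σ) (a : Fin n) :
    σ (th a) = th (σ a) := by
  by_contra h
  have h1 : mat g⁻¹ a (σ a) ≠ 0 := by
    intro h0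
    have h2 := congrFun (congrFun (mat_inv_mul g) a) a
    rw [Matrix.mul_apply, Matrix.one_apply_eq, Finset.sum_eq_zero] at h2
    · exact zero_ne_one h2
    · intro c _
      by_cases hc : c = σ a
      · rw [hc, h0, zero_mul]
      · rw [hσ c a hc, mul_zero]
  apply h1
  rw [inv_apply, hσ _ _ (fun e => h e.symm), star_zero]

/-- The diagonal subgroup. -/
def torus (n : ℕ) (F : Type*) [Field F] [StarRing F] : Subgroup (UGt n F) where
  carrier := {g | IsMono (mat g) 1}
  mul_mem' := by
    intro g h hg hh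
    have := IsMono.mul hg hh
    rwa [one_mul] at this
  one_mem' := IsMono.one
  inv_mem' := by
    intro g hg
    have := mono_inv hg (fun a => rfl)
    rwa [inv_one] at this

theorem mem_torus (g : UGt n F) : g ∈ torus n F ↔ IsMono (mat g) 1 := Iff.rfl

theorem torus_apply {g : UGt n F} (hg : g ∈ torus n F) {a b : Fin n} (hab : a ≠ b) :
    mat g a b = 0 := hg a b hab

theorem torus_le_borel : torus n F ≤ borel n F := by
  intro g hg a b hab
  exact torus_apply hg (ne_of_gt hab)

theorem torus_le_mono : torus n F ≤ mono n F := fun g hg => ⟨1, hg, fun _ => rfl⟩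

theorem borel_inf_mono : borel n F ⊓ mono n F = torus n F := by
  apply le_antisymm
  · rintro g ⟨hB, σ, hσ, -⟩
    have := perm_eq_one_of_borel hB hσ
    rw [this] at hσ
    exact hσ
  · exact le_inf torus_le_borel torus_le_mono

/-- Conjugation by a monomial element preserves the diagonal subgroup. -/
theorem conj_mem_torus {g t : UGt n F} (hg : g ∈ mono n F) (ht : t ∈ torus n F) :
    g * t * g⁻¹ ∈ torus n F := by
  obtain ⟨σ, hσ, hσc⟩ := hg
  have := (hσ.mul ht).mul (mono_inv hσ hσc)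
  rw [mul_one, mul_inv_cancel] at this
  exact this

theorem adj_diagonal (d : Fin n → F) :
    adj (Matrix.diagonal d) = Matrix.diagonal (fun a => star (d (th a))) := by
  ext a b
  rw [adj_apply]
  by_cases h : a = b
  · subst h
    rw [Matrix.diagonal_apply_eq, Matrix.diagonal_apply_eq]
  · rw [Matrix.diagonal_apply_ne _ h, Matrix.diagonal_apply_ne, star_zero]
    intro e
    exact h (th.injective e).symm

/-- A diagonal unitary matrix. -/
def diagU (d : Fin n → F) (hd : ∀ a, d a * star (d (th a)) = 1) (hdet : ∏ a, d a = 1) :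
    UGt n F :=
  mk (Matrix.diagonal d) (by rw [Matrix.det_diagonal, hdet]) (by
    rw [adj_diagonal, Matrix.diagonal_mul_diagonal, ← Matrix.diagonal_one]
    congr 1
    funext a
    exact hd a)

theorem mat_diagU (d : Fin n → F) (hd : ∀ a, d a * star (d (th a)) = 1) (hdet : ∏ a, d a = 1) :
    mat (diagU d hd hdet) = Matrix.diagonal d := rfl

theorem diagU_mem_torus (d : Fin n → F) (hd : ∀ a, d a * star (d (th a)) = 1)
    (hdet : ∏ a, d a = 1) : diagU d hd hdet ∈ torus n F := by
  intro a b hab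
  have hab' : a ≠ b := hab
  rw [mat_diagU, Matrix.diagonal_apply_ne _ hab']

/-- The unitriangular subgroup. -/
def unip (n : ℕ) (F : Type*) [Field F] [StarRing F] : Subgroup (UGt n F) where
  carrier := {g | g ∈ borel n F ∧ ∀ a, mat g a a = 1}
  mul_mem' := by
    rintro g h ⟨hg, hg1⟩ ⟨hh, hh1⟩
    refine ⟨(borel n F).mul_mem hg hh, fun a => ?_⟩
    rw [mat_mul, tri_mul_diag hg hh, hg1, hh1, one_mul]
  one_mem' := ⟨(borel n F).one_mem, fun a => Matrix.one_apply_eq a⟩
  inv_mem' := by
    rintro g ⟨hg, hg1⟩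
    refine ⟨(borel n F).inv_mem hg, fun a => ?_⟩
    have := borel_diag_mul_inv hg a
    rwa [hg1, one_mul] at this

theorem mem_unip (g : UGt n F) : g ∈ unip n F ↔ g ∈ borel n F ∧ ∀ a, mat g a a = 1 := Iff.rfl

theorem unip_le_borel : unip n F ≤ borel n F := fun _ h => h.1

theorem conj_mem_unip {b u : UGt n F} (hb : b ∈ borel n F) (hu : u ∈ unip n F) :
    b * u * b⁻¹ ∈ unip n F := by
  refine ⟨(borel n F).mul_mem ((borel n F).mul_mem hb hu.1) ((borel n F).inv_mem hb), fun a => ?_⟩
  rw [mat_mul, tri_mul_diag ((borel n F).mul_mem hb hu.1) ((borel n F).inv_mem hb), mat_mul,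
    tri_mul_diag hb hu.1, hu.2, mul_one, borel_diag_mul_inv hb]

theorem unip_inf_torus : unip n F ⊓ torus n F = ⊥ := by
  rw [eq_bot_iff]
  rintro g ⟨hu, ht⟩
  rw [Subgroup.mem_bot]
  apply mat_injective
  ext a b
  rw [mat_one]
  by_cases hab : a = b
  · subst hab
    rw [hu.2, Matrix.one_apply_eq]
  · rw [torus_apply ht hab, Matrix.one_apply_ne hab]

/-- The decomposition `B = U T`. -/
theorem exists_unip_mul_torus {b : UGt n F} (hb : b ∈ borel n F) :
    ∃ u ∈ unip n F, ∃ t ∈ torus n F, b = u * t := by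
  have hd := borel_diag_mul_th hb
  have hdet : ∏ a, mat b a a = 1 := by
    rw [← Matrix.det_of_upperTriangular ((upper_iff _).1 hb), det_mat]
  set t : UGt n F := diagU (fun a => mat b a a) hd hdet with ht
  have htT : t ∈ torus n F := diagU_mem_torus _ _ _
  have htB : t ∈ borel n F := torus_le_borel htT
  refine ⟨b * t⁻¹, ⟨(borel n F).mul_mem hb ((borel n F).inv_mem htB), fun a => ?_⟩, t, htT, by group⟩
  rw [mat_mul, tri_mul_diag hb ((borel n F).inv_mem htB), inv_apply, ht, mat_diagU,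
    Matrix.diagonal_apply_eq]
  exact hd a

end

end Cfsg.Agent.Lib.Helper5.SUBN
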