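import Mathlib
import Cfsg.Agent.Lib.Helper5.SUBN.Mono

set_option autoImplicit false

/-!
The embedding of a small unitary group into a large one along a strictly increasing map of the
index sets that commutes with the order reversing involutions.
-/

namespace Cfsg.Agent.Lib.Helper5.SUBN

open Matrix Cfsg.Agent.Lib.Helper5.SLnBN

/-- A strictly increasing map of index sets commuting with the order reversing involutions. -/
structure SEmb (r n : ℕ) where
  /-- the map -/
  toFun : Fin r → Fin n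
  mono : StrictMono toFun
  rev : ∀ i, toFun (th i) = th (toFun i)

namespace SEmb

section
variable {r n : ℕ} (p : SEmb r n)

theorem injective : Function.Injective p.toFun := p.mono.injective

theorem lt_iff {i j : Fin r} : p.toFun i < p.toFun j ↔ i < j := p.mono.lt_iff_lt

/-- The complement of the range. -/
abbrev Cmp : Type := {k : Fin n // ∀ i, p.toFun i ≠ k}

/-- The involution on the complement of the range. -/
def thC (c : p.Cmp) : p.Cmp := ⟨th c.1, fun i e => c.2 (th i) (by rw [p.rev, e, th_th])⟩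

theorem thC_val (c : p.Cmp) : (p.thC c).1 = th c.1 := rfl

theorem thC_injective : Function.Injective p.thC := by
  intro c d e
  apply Subtype.ext
  have := congrArg Subtype.val e
  exact th.injective this

/-- The index set as the sum of the range and its complement. -/
noncomputable def eqv : Fin r ⊕ p.Cmp ≃ Fin n :=
  Equiv.ofBijective (Sum.elim p.toFun Subtype.val) (by
    constructor
    · rintro (i | c) (j | d) e
      · exact congrArg Sum.inl (p.injective e)
      · exact absurd e (d.2 i)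
      · exact absurd e.symm (c.2 j)
      · exact congrArg Sum.inr (Subtype.ext e)
    · intro k
      by_cases h : ∃ i, p.toFun i = k
      · obtain ⟨i, hi⟩ := h
        exact ⟨Sum.inl i, hi⟩
      · push_neg at h
        exact ⟨Sum.inr ⟨k, h⟩, rfl⟩)

theorem eqv_inl (i : Fin r) : p.eqv (Sum.inl i) = p.toFun i := rfl

theorem eqv_inr (c : p.Cmp) : p.eqv (Sum.inr c) = c.1 := rfl

theorem eqv_symm_p (i : Fin r) : p.eqv.symm (p.toFun i) = Sum.inl i := by
  rw [Equiv.symm_apply_eq, eqv_inl]

theorem eqv_symm_c (c : p.Cmp) : p.eqv.symm c.1 = Sum.inr c := by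
  rw [Equiv.symm_apply_eq, eqv_inr]

theorem cases (k : Fin n) : (∃ i, k = p.toFun i) ∨ (∃ c : p.Cmp, k = c.1) := by
  obtain ⟨x, rfl⟩ := p.eqv.surjective k
  rcases x with i | c
  · exact Or.inl ⟨i, rfl⟩
  · exact Or.inr ⟨c, rfl⟩

end

section
variable {r n : ℕ} {F : Type*} [Field F] [StarRing F] (p : SEmb r n)

/-- The embedding of matrices. -/
noncomputable def emb (M : Matrix (Fin r) (Fin r) F) : Matrix (Fin n) (Fin n) F :=
  (Matrix.fromBlocks M 0 0 (1 : Matrix p.Cmp p.Cmp F)).submatrix p.eqv.symm p.eqv.symm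

theorem emb_mul (M N : Matrix (Fin r) (Fin r) F) : p.emb (M * N) = p.emb M * p.emb N := by
  unfold emb
  rw [Matrix.submatrix_mul_equiv, Matrix.fromBlocks_multiply]
  simp

theorem emb_one : p.emb (1 : Matrix (Fin r) (Fin r) F) = 1 := by
  unfold emb
  rw [Matrix.fromBlocks_one, Matrix.submatrix_one_equiv]

theorem det_emb (M : Matrix (Fin r) (Fin r) F) : (p.emb M).det = M.det := by
  unfold emb
  rw [Matrix.det_submatrix_equiv_self, Matrix.det_fromBlocks_zero₂₁, Matrix.det_one, mul_one]

theorem emb_pp (M : Matrix (Fin r) (Fin r) F) (i j : Fin r) :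
    p.emb M (p.toFun i) (p.toFun j) = M i j := by
  unfold emb
  rw [Matrix.submatrix_apply, eqv_symm_p, eqv_symm_p, Matrix.fromBlocks_apply₁₁]

theorem emb_pc (M : Matrix (Fin r) (Fin r) F) (i : Fin r) (c : p.Cmp) :
    p.emb M (p.toFun i) c.1 = 0 := by
  unfold emb
  rw [Matrix.submatrix_apply, eqv_symm_p, eqv_symm_c, Matrix.fromBlocks_apply₁₂]
  rfl

theorem emb_cp (M : Matrix (Fin r) (Fin r) F) (c : p.Cmp) (j : Fin r) :
    p.emb M c.1 (p.toFun j) = 0 := by
  unfold emb
  rw [Matrix.submatrix_apply, eqv_symm_p, eqv_symm_c, Matrix.fromBlocks_apply₂₁]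
  rfl

theorem emb_cc (M : Matrix (Fin r) (Fin r) F) (c d : p.Cmp) :
    p.emb M c.1 d.1 = if c = d then 1 else 0 := by
  unfold emb
  rw [Matrix.submatrix_apply, eqv_symm_c, eqv_symm_c, Matrix.fromBlocks_apply₂₂, Matrix.one_apply]

theorem emb_cc' (M : Matrix (Fin r) (Fin r) F) (c d : p.Cmp) :
    p.emb M c.1 d.1 = (1 : Matrix (Fin n) (Fin n) F) c.1 d.1 := by
  rw [emb_cc, Matrix.one_apply]
  by_cases h : c = d
  · rw [if_pos h, if_pos (congrArg Subtype.val h)]
  · rw [if_neg h, if_neg (fun e => h (Subtype.ext e))]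

theorem emb_injective : Function.Injective (p.emb : Matrix (Fin r) (Fin r) F → _) := by
  intro M N e
  ext i j
  rw [← p.emb_pp M, e, p.emb_pp]

theorem adj_emb (M : Matrix (Fin r) (Fin r) F) : adj (p.emb M) = p.emb (adj M) := by
  ext k l
  rw [adj_apply]
  rcases p.cases k with ⟨i, rfl⟩ | ⟨c, rfl⟩ <;> rcases p.cases l with ⟨j, rfl⟩ | ⟨d, rfl⟩
  · rw [← p.rev, ← p.rev, emb_pp, emb_pp, adj_apply]
  · rw [← p.rev, ← p.thC_val, emb_cp, emb_pc, star_zero]
  · rw [← p.rev, ← p.thC_val, emb_pc, emb_cp, star_zero]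
  · rw [← p.thC_val, ← p.thC_val, emb_cc, emb_cc]
    by_cases h : c = d
    · rw [if_pos h, if_pos (by rw [h]), star_one]
    · rw [if_neg h, if_neg (fun e => h (p.thC_injective e).symm), star_zero]

theorem upper_emb {M : Matrix (Fin r) (Fin r) F} (hM : Upper M) : Upper (p.emb M) := by
  intro k l hlk
  rcases p.cases k with ⟨i, rfl⟩ | ⟨c, rfl⟩ <;> rcases p.cases l with ⟨j, rfl⟩ | ⟨d, rfl⟩
  · rw [emb_pp]
    exact hM i j (p.lt_iff.1 hlk)
  · rw [emb_pc]
  · rw [emb_cp]
  · rw [emb_cc, if_neg]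
    intro e
    rw [e] at hlk
    exact lt_irrefl _ hlk

theorem emb_diag_c (M : Matrix (Fin r) (Fin r) F) (c : p.Cmp) : p.emb M c.1 c.1 = 1 := by
  rw [emb_cc, if_pos rfl]

/-- The product of a matrix and an embedded matrix, at a column of the range. -/
theorem mul_emb_p (N : Matrix (Fin n) (Fin n) F) (M : Matrix (Fin r) (Fin r) F) (k : Fin n)
    (j : Fin r) : (N * p.emb M) k (p.toFun j) = ∑ i, N k (p.toFun i) * M i j := by
  rw [Matrix.mul_apply, ← Equiv.sum_comp p.eqv, Fintype.sum_sum_type]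
  simp only [eqv_inl, eqv_inr, emb_pp, emb_cp, mul_zero, Finset.sum_const_zero, add_zero]

/-- The product of a matrix and an embedded matrix, at a column outside the range. -/
theorem mul_emb_c (N : Matrix (Fin n) (Fin n) F) (M : Matrix (Fin r) (Fin r) F) (k : Fin n)
    (c : p.Cmp) : (N * p.emb M) k c.1 = N k c.1 := by
  rw [Matrix.mul_apply, ← Equiv.sum_comp p.eqv, Fintype.sum_sum_type]
  simp only [eqv_inl, eqv_inr, emb_pc, emb_cc, mul_zero, Finset.sum_const_zero, zero_add,
    mul_ite, mul_one, Finset.sum_ite_eq', Finset.mem_univ, if_true]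

/-- The product of an embedded matrix and a matrix, at a row of the range. -/
theorem emb_mul_p (M : Matrix (Fin r) (Fin r) F) (N : Matrix (Fin n) (Fin n) F) (i : Fin r)
    (l : Fin n) : (p.emb M * N) (p.toFun i) l = ∑ j, M i j * N (p.toFun j) l := by
  rw [Matrix.mul_apply, ← Equiv.sum_comp p.eqv, Fintype.sum_sum_type]
  simp only [eqv_inl, eqv_inr, emb_pp, emb_pc, zero_mul, Finset.sum_const_zero, add_zero]

/-- The product of an embedded matrix and a matrix, at a row outside the range. -/
theorem emb_mul_c (M : Matrix (Fin r) (Fin r) F) (N : Matrix (Fin n) (Fin n) F) (c : p.Cmp)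
    (l : Fin n) : (p.emb M * N) c.1 l = N c.1 l := by
  rw [Matrix.mul_apply, ← Equiv.sum_comp p.eqv, Fintype.sum_sum_type]
  simp only [eqv_inl, eqv_inr, emb_cp, emb_cc, zero_mul, Finset.sum_const_zero, zero_add,
    ite_mul, one_mul, Finset.sum_ite_eq, Finset.mem_univ, if_true]

/-- The embedding of unitary groups. -/
noncomputable def embU : UGt r F →* UGt n F where
  toFun g := SUBN.mk (p.emb (mat g)) (by rw [det_emb, det_mat]) (by
    rw [adj_emb, ← emb_mul, mat_mul_adj, emb_one])
  map_one' := by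
    apply mat_injective
    rw [mat_mk, mat_one, mat_one, emb_one]
  map_mul' g h := by
    apply mat_injective
    rw [mat_mk, mat_mul, mat_mul, mat_mk, mat_mk, emb_mul]

theorem mat_embU (g : UGt r F) : mat (p.embU g) = p.emb (mat g) := rfl

theorem embU_injective : Function.Injective (p.embU : UGt r F → UGt n F) := by
  intro g h e
  apply mat_injective
  apply p.emb_injective
  rw [← mat_embU, e, mat_embU]

theorem embU_mem_borel {g : UGt r F} (hg : g ∈ borel r F) : p.embU g ∈ borel n F :=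
  p.upper_emb hg

theorem embU_mem_unip {g : UGt r F} (hg : g ∈ unip r F) : p.embU g ∈ unip n F := by
  refine ⟨p.embU_mem_borel hg.1, fun k => ?_⟩
  rcases p.cases k with ⟨i, rfl⟩ | ⟨c, rfl⟩
  · rw [mat_embU, emb_pp, hg.2]
  · rw [mat_embU, emb_diag_c]

/-- The extension of a permutation of the small index set. -/
noncomputable def extPerm (τ : Equiv.Perm (Fin r)) : Equiv.Perm (Fin n) :=
  p.eqv.permCongr (Equiv.sumCongr τ (Equiv.refl _))

theorem extPerm_p (τ : Equiv.Perm (Fin r)) (i : Fin r) :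
    p.extPerm τ (p.toFun i) = p.toFun (τ i) := by
  unfold extPerm
  rw [Equiv.permCongr_apply, eqv_symm_p]
  rfl

theorem extPerm_c (τ : Equiv.Perm (Fin r)) (c : p.Cmp) : p.extPerm τ c.1 = c.1 := by
  unfold extPerm
  rw [Equiv.permCongr_apply, eqv_symm_c]
  rfl

theorem isMono_emb {M : Matrix (Fin r) (Fin r) F} {τ : Equiv.Perm (Fin r)} (hM : IsMono M τ) :
    IsMono (p.emb M) (p.extPerm τ) := by
  intro k l hkl
  rcases p.cases k with ⟨i, rfl⟩ | ⟨c, rfl⟩ <;> rcases p.cases l with ⟨j, rfl⟩ | ⟨d, rfl⟩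
  · rw [emb_pp]
    apply hM
    intro e
    apply hkl
    rw [extPerm_p, e]
  · rw [emb_pc]
  · rw [emb_cp]
  · rw [emb_cc, if_neg]
    intro e
    apply hkl
    rw [extPerm_c, e]

end

end SEmb

end Cfsg.Agent.Lib.Helper5.SUBN
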