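import Mathlib
import Cfsg.Agent.Lib.Helper5.SLnBN5
import Cfsg.Agent.Lib.Helper5.SUBN.Mono

set_option autoImplicit false

/-!
Root data in the unitary group: a reflection, a root subgroup supported on the set of inversions
of the reflection, the rank one relation, and the double coset condition derived from them.
-/

namespace Cfsg.Agent.Lib.Helper5.SUBN

open Matrix Cfsg.Agent.Lib.Helper5.SLnBN DoubleCoset

section
variable {n : ℕ} {F : Type*} [Field F] [StarRing F]

/-- The data attached to a simple root. -/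
structure RData (n : ℕ) (F : Type*) [Field F] [StarRing F] where
  /-- the reflection -/
  s : UGt n F
  /-- the permutation of the reflection -/
  τ : Equiv.Perm (Fin n)
  /-- the root subgroup -/
  X : Set (UGt n F)
  /-- the positions of the root subgroup -/
  P : Fin n → Fin n → Prop
  s_mono : IsMono (mat s) τ
  s_sq : s * s ∈ borel n F
  X_unip : ∀ x ∈ X, x ∈ unip n F
  x_supp : ∀ x ∈ X, ∀ k l, k ≠ l → ¬ P k l → mat x k l = 0
  P_lt : ∀ k l, P k l → k < l
  P_inv : ∀ k l, P k l → τ l < τ k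
  inv_pairs : ∀ k l, k < l → τ l < τ k → P k l
  dich : ∀ (m : ℕ) (f : Fin n → Fin m), Function.Injective f → (∀ k, f (th k) = th (f k)) →
    (∀ k l, P k l → f k < f l) ∨ (∀ k l, P k l → f (τ k) < f (τ l))
  rank_one : ∀ x ∈ X, x ≠ 1 → ∃ β ∈ borel n F, ∃ x' ∈ X, s * x = β * (s * x' * s⁻¹)
  nontriv : ∃ x ∈ X, ∃ k l, P k l ∧ mat x k l ≠ 0

namespace RData

variable (R : RData n F)

/-- Splitting off an element of the root subgroup. -/
def Split : Prop := ∀ g ∈ borel n F, ∃ x ∈ R.X, ∀ k l, R.P k l → mat (g * x⁻¹) k l = 0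

theorem τ_comm (k : Fin n) : R.τ (th k) = th (R.τ k) := mono_comm R.s_mono k

theorem s_mem_mono : R.s ∈ SUBN.mono n F := ⟨R.τ, R.s_mono, R.τ_comm⟩

theorem s_inv_mono : IsMono (mat R.s⁻¹) R.τ⁻¹ := mono_inv R.s_mono R.τ_comm

theorem X_le_borel {x : UGt n F} (hx : x ∈ R.X) : x ∈ borel n F := (R.X_unip x hx).1

/-- Conjugation by the reflection preserves the elements of the Borel subgroup with vanishing
entries at the positions of the root subgroup. -/
theorem s_conj_mem_borel {g : UGt n F} (hg : g ∈ borel n F)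
    (h0 : ∀ k l, R.P k l → mat g k l = 0) : R.s * g * R.s⁻¹ ∈ borel n F := by
  intro k' l' hlk
  obtain ⟨k, rfl⟩ : ∃ k, R.τ k = k' := ⟨R.τ⁻¹ k', by simp⟩
  obtain ⟨l, rfl⟩ : ∃ l, R.τ l = l' := ⟨R.τ⁻¹ l', by simp⟩
  rw [mat_mul, mat_mul, IsMono.conj_apply R.s_mono R.s_inv_mono]
  have hz : mat g k l = 0 := by
    rcases lt_trichotomy l k with h | h | h
    · exact hg _ _ h
    · rw [h] at hlk
      exact absurd hlk (lt_irrefl _)
    · exact h0 k l (R.inv_pairs k l h hlk)
  rw [hz, mul_zero, zero_mul]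

/-- Conjugating an element supported at the positions of the root subgroup by a monomial
element. -/
theorem conj_supp_mem_borel {w : UGt n F} {σ : Equiv.Perm (Fin n)} (hσ : IsMono (mat w) σ)
    (z : UGt n F) (hz : ∀ k l : Fin n, k ≠ l → ¬ R.P k l → mat z k l = 0)
    (hP : ∀ k l, R.P k l → σ⁻¹ k < σ⁻¹ l) : w⁻¹ * z * w ∈ borel n F := by
  intro k' l' hlk
  obtain ⟨k, rfl⟩ : ∃ k, σ⁻¹ k = k' := ⟨σ k', by simp⟩
  obtain ⟨l, rfl⟩ : ∃ l, σ⁻¹ l = l' := ⟨σ l', by simp⟩
  have h1 : IsMono (mat w⁻¹) σ⁻¹ := mono_inv hσ (mono_comm hσ)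
  have h2 : IsMono (mat w) (σ⁻¹)⁻¹ := by rwa [inv_inv]
  rw [mat_mul, mat_mul, IsMono.conj_apply h1 h2]
  have hz0 : mat z k l = 0 := by
    apply hz
    · intro e
      rw [e] at hlk
      exact lt_irrefl _ hlk
    · intro hp
      exact lt_asymm (hP k l hp) hlk
  rw [hz0, mul_zero, zero_mul]

/-- The double coset condition. -/
theorem s_mul_mem_union (hsplit : R.Split) {g b : UGt n F} (hg : g ∈ SUBN.mono n F)
    (hb : b ∈ borel n F) :
    R.s * b * g ∈ doubleCoset (R.s * g) (borel n F : Set _) (borel n F)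
      ∪ doubleCoset g (borel n F : Set _) (borel n F) := by
  obtain ⟨σ, hσ, hσc⟩ := hg
  obtain ⟨x, hx, hx0⟩ := hsplit b hb
  set b' : UGt n F := b * x⁻¹ with hb'
  have hb'B : b' ∈ borel n F := (borel n F).mul_mem hb ((borel n F).inv_mem (R.X_le_borel hx))
  have hbx : b = b' * x := by rw [hb']; group
  have h4 := R.s_conj_mem_borel hb'B hx0
  rcases R.dich n (σ⁻¹ : Equiv.Perm (Fin n)) (σ⁻¹ : Equiv.Perm (Fin n)).injective
    (perm_inv_comm hσc) with hlt | hgt
  · left
    rw [mem_doubleCoset]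
    refine ⟨R.s * b' * R.s⁻¹, h4, g⁻¹ * x * g,
      R.conj_supp_mem_borel hσ x (R.x_supp x hx) hlt, ?_⟩
    rw [hbx]
    group
  · by_cases hx1 : x = 1
    · left
      rw [mem_doubleCoset]
      refine ⟨R.s * b' * R.s⁻¹, h4, 1, Subgroup.one_mem _, ?_⟩
      rw [hbx, hx1]
      group
    · right
      obtain ⟨β, hβ, x', hx', e⟩ := R.rank_one x hx hx1
      have hmono : IsMono (mat (R.s⁻¹ * g)) (R.τ⁻¹ * σ) := by
        rw [mat_mul]
        exact R.s_inv_mono.mul hσ
      have h5 : (R.s⁻¹ * g)⁻¹ * x' * (R.s⁻¹ * g) ∈ borel n F := by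
        apply R.conj_supp_mem_borel hmono x' (R.x_supp x' hx')
        intro k l hkl
        have := hgt k l hkl
        rw [_root_.mul_inv_rev, inv_inv, Equiv.Perm.mul_apply, Equiv.Perm.mul_apply]
        exact this
      rw [mem_doubleCoset]
      refine ⟨R.s * b' * R.s⁻¹ * β, Subgroup.mul_mem _ h4 hβ,
        (R.s⁻¹ * g)⁻¹ * x' * (R.s⁻¹ * g), h5, ?_⟩
      have e' : R.s * b * g = R.s * b' * R.s⁻¹ * (R.s * x) * g := by
        rw [hbx]
        group
      rw [e', e]
      group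

/-- An element of the root subgroup whose conjugate by the reflection is not upper triangular. -/
theorem exists_conj_not_mem : ∃ x ∈ R.X, R.s * x * R.s⁻¹ ∉ borel n F := by
  obtain ⟨x, hx, k, l, hkl, hne⟩ := R.nontriv
  refine ⟨x, hx, fun h => ?_⟩
  have h2 := h _ _ (R.P_inv k l hkl)
  rw [mat_mul, mat_mul, IsMono.conj_apply R.s_mono R.s_inv_mono] at h2
  have h4 := mono_apply_ne_zero R.s_mono k
  have h5 := mono_apply_ne_zero R.s_inv_mono (R.τ l)
  have e5 : R.τ⁻¹ (R.τ l) = l := by simp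
  rw [e5] at h5
  rcases mul_eq_zero.1 h2 with h | h
  · rcases mul_eq_zero.1 h with h | h
    · exact h4 h
    · exact hne h
  · exact h5 h

/-- The reflection does not normalize the Borel subgroup. -/
theorem s_conj_ne :
    (fun b : UGt n F => R.s * b * R.s) '' (borel n F : Set (UGt n F))
      ≠ (borel n F : Set (UGt n F)) := by
  intro h
  obtain ⟨x, hx, hnot⟩ := R.exists_conj_not_mem
  have h1 : R.s * x * R.s ∈ (borel n F : Set (UGt n F)) := by
    rw [← h]
    exact ⟨_, R.X_le_borel hx, rfl⟩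
  apply hnot
  have e : R.s * x * R.s⁻¹ = R.s * x * R.s * (R.s * R.s)⁻¹ := by group
  rw [e]
  exact Subgroup.mul_mem _ h1 (Subgroup.inv_mem _ R.s_sq)

/-- An element of the double coset of the reflection that is conjugated into the Borel subgroup
by every monomial element with the order reversing permutation. -/
theorem exists_opp : ∃ y ∈ doubleCoset R.s (borel n F : Set (UGt n F)) (borel n F),
    ∀ w : UGt n F, IsMono (mat w) th → w⁻¹ * y * w ∈ borel n F := by
  obtain ⟨x, hx, k, l, hkl, hne⟩ := R.nontriv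
  have hx1 : x ≠ 1 := by
    intro e
    rw [e, mat_one, Matrix.one_apply_ne (ne_of_lt (R.P_lt k l hkl))] at hne
    exact hne rfl
  obtain ⟨β, hβ, x', hx', e⟩ := R.rank_one x hx hx1
  refine ⟨R.s * x' * R.s⁻¹, ?_, ?_⟩
  · rw [mem_doubleCoset]
    refine ⟨β⁻¹, (borel n F).inv_mem hβ, x, R.X_le_borel hx, ?_⟩
    have e2 : β⁻¹ * R.s * x = β⁻¹ * (R.s * x) := by group
    rw [e2, e]
    group
  · intro w hw
    have hmono : IsMono (mat (R.s⁻¹ * w)) (R.τ⁻¹ * th) := by
      rw [mat_mul]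
      exact R.s_inv_mono.mul hw
    have h5 : (R.s⁻¹ * w)⁻¹ * x' * (R.s⁻¹ * w) ∈ borel n F := by
      apply R.conj_supp_mem_borel hmono x' (R.x_supp x' hx')
      intro k l hkl
      rw [_root_.mul_inv_rev, inv_inv, th_inv, Equiv.Perm.mul_apply, Equiv.Perm.mul_apply,
        th_lt_th]
      exact R.P_inv k l hkl
    have e' : w⁻¹ * (R.s * x' * R.s⁻¹) * w = (R.s⁻¹ * w)⁻¹ * x' * (R.s⁻¹ * w) := by group
    rw [e']
    exact h5

end RData

end

end Cfsg.Agent.Lib.Helper5.SUBN
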