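import Mathlib
import Cfsg.Agent.Lib.Helper5.SUBN.Root

set_option autoImplicit false

/-!
The root data of the unitary group of degree two.
-/

namespace Cfsg.Agent.Lib.Helper5.SUBN

open Matrix Cfsg.Agent.Lib.Helper5.SLnBN

/-- A nonzero element negated by the involution. -/
class SkewElt (F : Type*) [Field F] [StarRing F] where
  /-- the element -/
  lam : F
  skew : star lam = -lam
  ne : lam ≠ 0

section
variable {F : Type*} [Field F] [StarRing F]

theorem th2_zero : th (0 : Fin 2) = 1 := rfl

theorem th2_one : th (1 : Fin 2) = 0 := rfl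

theorem adj2 (M : Matrix (Fin 2) (Fin 2) F) :
    adj M = !![star (M 1 1), star (M 0 1); star (M 1 0), star (M 0 0)] := by
  ext i j
  fin_cases i <;> fin_cases j <;> rfl

/-- The element of the unitary group of degree two with the given entries. -/
def mk2U (a b c d : F) (hdet : a * d - b * c = 1) (h1 : a * star d + b * star c = 1)
    (h2 : a * star b + b * star a = 0) (h3 : c * star d + d * star c = 0) : UGt 2 F :=
  mk !![a, b; c, d] (by rw [Matrix.det_fin_two_of, hdet]) (by
    rw [adj2]
    ext i j
    fin_cases i <;> fin_cases j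
    · simpa [Matrix.mul_apply, Fin.sum_univ_two] using h1
    · simpa [Matrix.mul_apply, Fin.sum_univ_two] using h2
    · simpa [Matrix.mul_apply, Fin.sum_univ_two] using h3
    · have h4 := congrArg star h1
      simp only [star_add, star_mul', star_star, star_one] at h4
      simp only [Fin.mk_one, Fin.isValue, Matrix.mul_apply, Fin.sum_univ_two, Matrix.of_apply,
        Matrix.cons_val', Matrix.cons_val_one, Matrix.cons_val_zero, Matrix.one_apply_eq,
        Matrix.cons_val_fin_one]
      linear_combination h4)

theorem mat_mk2U (a b c d : F) (hdet : a * d - b * c = 1) (h1 : a * star d + b * star c = 1)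
    (h2 : a * star b + b * star a = 0) (h3 : c * star d + d * star c = 0) :
    mat (mk2U a b c d hdet h1 h2 h3) = !![a, b; c, d] := rfl

end

section
variable {F : Type*} [Field F] [StarRing F] [SkewElt F]

/-- The distinguished skew element. -/
def lam (F : Type*) [Field F] [StarRing F] [SkewElt F] : F := SkewElt.lam

theorem star_lam : star (lam F) = -lam F := SkewElt.skew

theorem lam_ne : lam F ≠ 0 := SkewElt.ne

/-- The reflection of the unitary group of degree two. -/
def sE (F : Type*) [Field F] [StarRing F] [SkewElt F] : UGt 2 F :=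
  mk2U 0 (lam F) (-(lam F)⁻¹) 0 (by
    have := lam_ne (F := F)
    field_simp
    ring) (by
    have := lam_ne (F := F)
    rw [star_neg, star_inv₀, star_lam]
    field_simp
    simp) (by simp) (by simp)

/-- The inverse of the reflection. -/
def sEinv (F : Type*) [Field F] [StarRing F] [SkewElt F] : UGt 2 F :=
  mk2U 0 (-lam F) ((lam F)⁻¹) 0 (by
    have := lam_ne (F := F)
    field_simp
    ring) (by
    have := lam_ne (F := F)
    rw [star_inv₀, star_lam]
    field_simp
    simp) (by simp) (by simp)

theorem sE_mul_sEinv : sE F * sEinv F = 1 := by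
  apply mat_injective
  have := lam_ne (F := F)
  rw [mat_mul, mat_one]
  unfold sE sEinv
  rw [mat_mk2U, mat_mk2U]
  ext i j
  fin_cases i <;> fin_cases j <;> simp [Matrix.mul_apply, Fin.sum_univ_two, this]

theorem sE_inv : (sE F)⁻¹ = sEinv F := inv_eq_of_mul_eq_one_right sE_mul_sEinv

/-- The root elements of the unitary group of degree two. -/
def xE (c : F) (hc : star c = -c) : UGt 2 F :=
  mk2U 1 c 0 1 (by ring) (by simp) (by
    rw [hc, star_one]
    ring) (by simp)

theorem mat_xE (c : F) (hc : star c = -c) : mat (xE c hc) = !![1, c; 0, 1] := rfl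

theorem mat_sE : mat (sE F) = !![0, lam F; -(lam F)⁻¹, 0] := rfl

theorem mat_sEinv : mat (sEinv F) = !![0, -lam F; (lam F)⁻¹, 0] := rfl

theorem xE_mul_neg (c : F) (hc : star c = -c) :
    xE c hc * xE (-c) (by rw [star_neg, hc]) = 1 := by
  apply mat_injective
  rw [mat_mul, mat_one, mat_xE, mat_xE]
  ext i j
  fin_cases i <;> fin_cases j <;> simp [Matrix.mul_apply, Fin.sum_univ_two]

theorem xE_inv (c : F) (hc : star c = -c) : (xE c hc)⁻¹ = xE (-c) (by rw [star_neg, hc]) :=
  inv_eq_of_mul_eq_one_right (xE_mul_neg c hc)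

theorem xE_zero : xE (0 : F) (by simp) = 1 := by
  apply mat_injective
  rw [mat_xE, mat_one]
  ext i j
  fin_cases i <;> fin_cases j <;> simp

theorem fin2_cases (k : Fin 2) : k = 0 ∨ k = 1 := by
  fin_cases k
  · exact Or.inl rfl
  · exact Or.inr rfl

/-- The root data of the unitary group of degree two. -/
def dataE (F : Type*) [Field F] [StarRing F] [SkewElt F] : RData 2 F where
  s := sE F
  τ := Equiv.swap 0 1
  X := {x | ∃ (c : F) (hc : star c = -c), x = xE c hc}
  P := fun k l => k = 0 ∧ l = 1
  s_mono := by
    intro i j hij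
    rw [mat_sE]
    fin_cases i <;> fin_cases j
    · rfl
    · exact absurd rfl hij
    · exact absurd rfl hij
    · rfl
  s_sq := by
    intro a b hab
    rw [mat_mul, mat_sE]
    fin_cases a <;> fin_cases b
    · exact absurd hab (by decide)
    · exact absurd hab (by decide)
    · simp [Matrix.mul_apply, Fin.sum_univ_two]
    · exact absurd hab (by decide)
  X_unip := by
    rintro _ ⟨c, hc, rfl⟩
    refine ⟨?_, ?_⟩
    · intro a b hab
      rw [mat_xE]
      fin_cases a <;> fin_cases b
      · exact absurd hab (by decide)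
      · exact absurd hab (by decide)
      · rfl
      · exact absurd hab (by decide)
    · intro a
      rw [mat_xE]
      fin_cases a <;> rfl
  x_supp := by
    rintro _ ⟨c, hc, rfl⟩ k l hkl hP
    rw [mat_xE]
    fin_cases k <;> fin_cases l
    · exact absurd rfl hkl
    · exact absurd ⟨rfl, rfl⟩ hP
    · rfl
    · exact absurd rfl hkl
  P_lt := by
    rintro k l ⟨rfl, rfl⟩
    decide
  P_inv := by
    rintro k l ⟨rfl, rfl⟩
    decide
  inv_pairs := by
    intro k l hkl _
    fin_cases k <;> fin_cases l
    · exact absurd hkl (by decide)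
    · exact ⟨rfl, rfl⟩
    · exact absurd hkl (by decide)
    · exact absurd hkl (by decide)
  dich := by
    intro m f hf _
    rcases lt_or_gt_of_ne (fun e => absurd (hf e) (by decide) : f 0 ≠ f 1) with h | h
    · left
      rintro k l ⟨rfl, rfl⟩
      exact h
    · right
      rintro k l ⟨rfl, rfl⟩
      rw [Equiv.swap_apply_left, Equiv.swap_apply_right]
      exact h
  rank_one := by
    rintro _ ⟨c, hc, rfl⟩ hx1
    have hc0 : c ≠ 0 := by
      intro e
      apply hx1
      subst e
      exact xE_zero
    have hl := lam_ne (F := F)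
    have hc' : star (-(lam F) ^ 2 / c) = -(-(lam F) ^ 2 / c) := by
      rw [star_div₀, star_neg, star_pow, star_lam, hc]
      field_simp
    refine ⟨sE F * xE c hc * (sE F * xE (-(lam F) ^ 2 / c) hc' * (sE F)⁻¹)⁻¹, ?_,
      xE (-(lam F) ^ 2 / c) hc', ⟨_, hc', rfl⟩, (inv_mul_cancel_right _ _).symm⟩
    have e1 : sE F * xE c hc * (sE F * xE (-(lam F) ^ 2 / c) hc' * (sE F)⁻¹)⁻¹
        = sE F * xE c hc * sE F * xE (-(-(lam F) ^ 2 / c)) (by rw [star_neg, hc']) * sEinv F := by
      rw [_root_.mul_inv_rev, _root_.mul_inv_rev, inv_inv, xE_inv, sE_inv, ← mul_assoc, ← mul_assoc]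
    rw [e1]
    intro a b hab
    rw [mat_mul, mat_mul, mat_mul, mat_mul, mat_sE, mat_xE, mat_xE, mat_sEinv]
    fin_cases a <;> fin_cases b
    · exact absurd hab (by decide)
    · exact absurd hab (by decide)
    · simp [Matrix.mul_apply, Fin.sum_univ_two]
      left
      field_simp
      ring
    · exact absurd hab (by decide)
  nontriv := by
    refine ⟨xE (lam F) star_lam, ⟨_, star_lam, rfl⟩, 0, 1, ⟨rfl, rfl⟩, ?_⟩
    rw [mat_xE]
    exact lam_ne

end

end Cfsg.Agent.Lib.Helper5.SUBN
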