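import Mathlib
import Cfsg.Agent.Lib.Helper5.SLnBN5
import Cfsg.Agent.Lib.Helper5.SUBN.NodeE

set_option autoImplicit false

/-!
The linear root data of the unitary group of degree four.
-/

namespace Cfsg.Agent.Lib.Helper5.SUBN

open Matrix Cfsg.Agent.Lib.Helper5.SLnBN Cfsg.Agent.Lib.Helper5.PSL2Aut

section
variable {F : Type*} [Field F] [StarRing F]

/-- The index set of degree four as a sum of two index sets of degree two. -/
def e4 : Fin 2 ⊕ Fin 2 ≃ Fin 4 where
  toFun := Sum.elim ![0, 1] ![2, 3]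
  invFun := ![Sum.inl 0, Sum.inl 1, Sum.inr 0, Sum.inr 1]
  left_inv := by
    rintro (i | i) <;> fin_cases i <;> rfl
  right_inv := by
    intro i
    fin_cases i <;> rfl

theorem th_e4_inl (i : Fin 2) : th (e4 (Sum.inl i)) = e4 (Sum.inr (th i)) := by
  fin_cases i <;> rfl

theorem th_e4_inr (i : Fin 2) : th (e4 (Sum.inr i)) = e4 (Sum.inl (th i)) := by
  fin_cases i <;> rfl

/-- Block diagonal matrices of degree four. -/
def blk (A D : Matrix (Fin 2) (Fin 2) F) : Matrix (Fin 4) (Fin 4) F :=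
  (Matrix.fromBlocks A 0 0 D).submatrix e4.symm e4.symm

theorem blk_e4 (A D : Matrix (Fin 2) (Fin 2) F) (x y : Fin 2 ⊕ Fin 2) :
    blk A D (e4 x) (e4 y) = Matrix.fromBlocks A 0 0 D x y := by
  unfold blk
  rw [Matrix.submatrix_apply, Equiv.symm_apply_apply, Equiv.symm_apply_apply]

theorem blk_mul (A D A' D' : Matrix (Fin 2) (Fin 2) F) :
    blk A D * blk A' D' = blk (A * A') (D * D') := by
  unfold blk
  rw [Matrix.submatrix_mul_equiv, Matrix.fromBlocks_multiply]
  simp

theorem blk_one : blk (1 : Matrix (Fin 2) (Fin 2) F) 1 = 1 := by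
  unfold blk
  rw [Matrix.fromBlocks_one, Matrix.submatrix_one_equiv]

theorem det_blk (A D : Matrix (Fin 2) (Fin 2) F) : (blk A D).det = A.det * D.det := by
  unfold blk
  rw [Matrix.det_submatrix_equiv_self, Matrix.det_fromBlocks_zero₂₁]

theorem adj_blk (A D : Matrix (Fin 2) (Fin 2) F) : adj (blk A D) = blk (adj D) (adj A) := by
  ext k l
  obtain ⟨x, rfl⟩ := e4.surjective k
  obtain ⟨y, rfl⟩ := e4.surjective l
  rw [adj_apply, blk_e4]
  rcases x with i | i <;> rcases y with j | j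
  · rw [th_e4_inl, th_e4_inl, blk_e4]
    rfl
  · rw [th_e4_inl, th_e4_inr, blk_e4]
    simp
  · rw [th_e4_inl, th_e4_inr, blk_e4]
    simp
  · rw [th_e4_inr, th_e4_inr, blk_e4]
    rfl

theorem blk_eq (A D : Matrix (Fin 2) (Fin 2) F) :
    blk A D = !![A 0 0, A 0 1, 0, 0; A 1 0, A 1 1, 0, 0;
      0, 0, D 0 0, D 0 1; 0, 0, D 1 0, D 1 1] := by
  ext i j
  fin_cases i <;> fin_cases j <;> rfl

/-- The twist of a matrix of degree two. -/
def sharp (A : Matrix (Fin 2) (Fin 2) F) : Matrix (Fin 2) (Fin 2) F :=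
  !![star (A 0 0), -star (A 0 1); -star (A 1 0), star (A 1 1)]

theorem sharp_mul (A B : Matrix (Fin 2) (Fin 2) F) : sharp (A * B) = sharp A * sharp B := by
  ext i j
  fin_cases i <;> fin_cases j <;> simp [sharp, Matrix.mul_apply, Fin.sum_univ_two] <;> ring

theorem sharp_one : sharp (1 : Matrix (Fin 2) (Fin 2) F) = 1 := by
  ext i j
  fin_cases i <;> fin_cases j <;> simp [sharp]

theorem det_sharp (A : Matrix (Fin 2) (Fin 2) F) : (sharp A).det = star A.det := by
  rw [Matrix.det_fin_two, Matrix.det_fin_two]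
  simp [sharp]

theorem mul_adj_sharp (A : Matrix (Fin 2) (Fin 2) F) (hA : A.det = 1) :
    A * adj (sharp A) = 1 := by
  rw [Matrix.det_fin_two] at hA
  rw [adj2]
  ext i j
  fin_cases i <;> fin_cases j <;> simp [sharp, Matrix.mul_apply, Fin.sum_univ_two]
  · linear_combination hA
  · ring
  · ring
  · linear_combination hA

theorem sharp_mul_adj (A : Matrix (Fin 2) (Fin 2) F) (hA : A.det = 1) :
    sharp A * adj A = 1 := by
  rw [Matrix.det_fin_two] at hA
  have hA' := congrArg star hA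
  simp only [star_sub, star_mul', star_one] at hA'
  rw [adj2]
  ext i j
  fin_cases i <;> fin_cases j <;> simp [sharp, Matrix.mul_apply, Fin.sum_univ_two]
  · linear_combination hA'
  · ring
  · ring
  · linear_combination hA'

/-- The homomorphism from the special linear group of degree two. -/
def psi : SpecialLinearGroup (Fin 2) F →* UGt 4 F where
  toFun A := mk (blk (A : Matrix (Fin 2) (Fin 2) F) (sharp (A : Matrix (Fin 2) (Fin 2) F))) (by
    rw [det_blk, det_sharp, A.2, star_one, one_mul]) (by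
    rw [adj_blk, blk_mul, mul_adj_sharp _ A.2, sharp_mul_adj _ A.2, blk_one])
  map_one' := by
    apply mat_injective
    rw [mat_mk, Matrix.SpecialLinearGroup.coe_one, sharp_one, blk_one, mat_one]
  map_mul' A B := by
    apply mat_injective
    rw [mat_mk, mat_mul, mat_mk, mat_mk, Matrix.SpecialLinearGroup.coe_mul, sharp_mul, blk_mul]

theorem mat_psi (A : SpecialLinearGroup (Fin 2) F) :
    mat (psi A) = blk (A : Matrix (Fin 2) (Fin 2) F) (sharp (A : Matrix (Fin 2) (Fin 2) F)) := rfl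

theorem mat_psi_mk2 (a b c d : F) (h : a * d - b * c = 1) :
    mat (psi (mk2 a b c d h)) = !![a, b, 0, 0; c, d, 0, 0;
      0, 0, star a, -star b; 0, 0, -star c, star d] := by
  rw [mat_psi, mk2_coe, blk_eq]
  rfl

theorem psi_upper (a b d : F) (h : a * d - b * 0 = 1) : psi (mk2 a b 0 d h) ∈ borel 4 F := by
  intro k l hkl
  rw [mat_psi_mk2]
  fin_cases k <;> fin_cases l <;> first | exact absurd hkl (by decide) | simp

theorem psi_xm_mem_unip (c : F) : psi (xm c) ∈ unip 4 F := by
  refine ⟨psi_upper _ _ _ _, fun k => ?_⟩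
  unfold xm
  rw [mat_psi_mk2]
  fin_cases k <;> simp

theorem swap4_zero :
    (Equiv.swap (0 : Fin 4) 1 * Equiv.swap 2 3 : Equiv.Perm (Fin 4)) 0 = 1 := by decide

theorem swap4_one :
    (Equiv.swap (0 : Fin 4) 1 * Equiv.swap 2 3 : Equiv.Perm (Fin 4)) 1 = 0 := by decide

theorem swap4_two :
    (Equiv.swap (0 : Fin 4) 1 * Equiv.swap 2 3 : Equiv.Perm (Fin 4)) 2 = 3 := by decide

theorem swap4_three :
    (Equiv.swap (0 : Fin 4) 1 * Equiv.swap 2 3 : Equiv.Perm (Fin 4)) 3 = 2 := by decide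

theorem th4_zero : th (0 : Fin 4) = 3 := rfl

theorem th4_one : th (1 : Fin 4) = 2 := rfl

theorem th4_two : th (2 : Fin 4) = 1 := rfl

theorem th4_three : th (3 : Fin 4) = 0 := rfl

/-- The linear root data of the unitary group of degree four. -/
def dataL (F : Type*) [Field F] [StarRing F] : RData 4 F where
  s := psi (wm 1)
  τ := Equiv.swap 0 1 * Equiv.swap 2 3
  X := Set.range (fun c : F => psi (xm c))
  P := fun k l => (k = 0 ∧ l = 1) ∨ (k = 2 ∧ l = 3)
  s_mono := by
    intro i j hij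
    unfold wm
    rw [mat_psi_mk2]
    fin_cases i <;> fin_cases j <;> first | exact absurd (by decide) hij | simp
  s_sq := by
    rw [← map_mul, wm_one_sq]
    exact psi_upper _ _ _ _
  X_unip := by
    rintro _ ⟨c, rfl⟩
    exact psi_xm_mem_unip c
  x_supp := by
    rintro _ ⟨c, rfl⟩ k l hkl hP
    unfold xm
    rw [mat_psi_mk2]
    fin_cases k <;> fin_cases l <;>
      first
      | exact absurd rfl hkl
      | exact absurd (Or.inl ⟨rfl, rfl⟩) hP
      | exact absurd (Or.inr ⟨rfl, rfl⟩) hP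
      | simp
  P_lt := by
    rintro k l (⟨rfl, rfl⟩ | ⟨rfl, rfl⟩) <;> decide
  P_inv := by
    rintro k l (⟨rfl, rfl⟩ | ⟨rfl, rfl⟩) <;> decide
  inv_pairs := by decide
  dich := by
    intro m f hf hfc
    have h0 : (f 3).val = m - 1 - (f 0).val := by
      rw [← th_val, ← hfc, th4_zero]
    have h1 : (f 2).val = m - 1 - (f 1).val := by
      rw [← th_val, ← hfc, th4_one]
    have hne : (f 0).val ≠ (f 1).val := fun e => absurd (hf (Fin.ext e)) (by decide)
    have hm0 := (f 0).2
    have hm1 := (f 1).2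
    by_cases hlt : (f 0).val < (f 1).val
    · left
      rintro k l (⟨rfl, rfl⟩ | ⟨rfl, rfl⟩)
      · exact hlt
      · rw [Fin.lt_def]
        omega
    · right
      rintro k l (⟨rfl, rfl⟩ | ⟨rfl, rfl⟩)
      · rw [swap4_zero, swap4_one, Fin.lt_def]
        omega
      · rw [swap4_two, swap4_three, Fin.lt_def]
        omega
  rank_one := by
    rintro _ ⟨c, rfl⟩ hx1
    have hc : c ≠ 0 := by
      intro e
      apply hx1
      show psi (xm c) = 1
      rw [e, xm_zero, map_one]
    refine ⟨psi (bmat c hc), psi_upper _ _ _ _, psi (xm (-c⁻¹)), ⟨_, rfl⟩, ?_⟩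
    rw [← map_mul, wm_one_mul_xm c hc, ← map_inv, ← map_mul, ← map_mul, ← map_mul,
      wm_one_mul_xm_mul_inv, neg_neg]
  nontriv := by
    refine ⟨psi (xm 1), ⟨1, rfl⟩, 0, 1, Or.inl ⟨rfl, rfl⟩, ?_⟩
    unfold xm
    rw [mat_psi_mk2]
    simp

end

end Cfsg.Agent.Lib.Helper5.SUBN
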