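import Mathlib
import Cfsg.Agent.Lib.Helper5.SUBN.NodeE

set_option autoImplicit false

/-!
The root data of the unitary group of degree three.
-/

namespace Cfsg.Agent.Lib.Helper5.SUBN

open Matrix Cfsg.Agent.Lib.Helper5.SLnBN

section
variable {F : Type*} [Field F] [StarRing F]

theorem th3_zero : th (0 : Fin 3) = 2 := rfl

theorem th3_one : th (1 : Fin 3) = 1 := rfl

theorem th3_two : th (2 : Fin 3) = 0 := rfl

theorem adj3 (M : Matrix (Fin 3) (Fin 3) F) :
    adj M = !![star (M 2 2), star (M 1 2), star (M 0 2);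
      star (M 2 1), star (M 1 1), star (M 0 1);
      star (M 2 0), star (M 1 0), star (M 0 0)] := by
  ext i j
  fin_cases i <;> fin_cases j <;> rfl

end

section
variable {F : Type*} [Field F] [StarRing F] [SkewElt F]

/-- The reflection of the unitary group of degree three. -/
def sO (F : Type*) [Field F] [StarRing F] [SkewElt F] : UGt 3 F :=
  mk !![0, 0, lam F; 0, 1, 0; -(lam F)⁻¹, 0, 0] (by
    have := lam_ne (F := F)
    rw [Matrix.det_fin_three]
    simp
    field_simp) (by
    have hl := lam_ne (F := F)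
    rw [adj3]
    ext i j
    fin_cases i <;> fin_cases j <;>
      simp [Matrix.mul_apply, Fin.sum_univ_three, star_lam, hl])

theorem mat_sO : mat (sO F) = !![0, 0, lam F; 0, 1, 0; -(lam F)⁻¹, 0, 0] := rfl

/-- The inverse of the reflection. -/
def sOinv (F : Type*) [Field F] [StarRing F] [SkewElt F] : UGt 3 F :=
  mk !![0, 0, -lam F; 0, 1, 0; (lam F)⁻¹, 0, 0] (by
    have := lam_ne (F := F)
    rw [Matrix.det_fin_three]
    simp
    field_simp) (by
    have hl := lam_ne (F := F)
    rw [adj3]
    ext i j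
    fin_cases i <;> fin_cases j <;>
      simp [Matrix.mul_apply, Fin.sum_univ_three, star_lam, hl])

theorem mat_sOinv : mat (sOinv F) = !![0, 0, -lam F; 0, 1, 0; (lam F)⁻¹, 0, 0] := rfl

theorem sO_mul_sOinv : sO F * sOinv F = 1 := by
  apply mat_injective
  have := lam_ne (F := F)
  rw [mat_mul, mat_one, mat_sO, mat_sOinv]
  ext i j
  fin_cases i <;> fin_cases j <;> simp [Matrix.mul_apply, Fin.sum_univ_three, this]

theorem sO_inv : (sO F)⁻¹ = sOinv F := inv_eq_of_mul_eq_one_right sO_mul_sOinv

/-- The root elements of the unitary group of degree three. -/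
def xO (α β : F) (h : β + star β + α * star α = 0) : UGt 3 F :=
  mk !![1, α, β; 0, 1, -star α; 0, 0, 1] (by
    rw [Matrix.det_fin_three]
    simp) (by
    rw [adj3]
    ext i j
    fin_cases i <;> fin_cases j <;>
      simp [Matrix.mul_apply, Fin.sum_univ_three]
    linear_combination h)

theorem mat_xO (α β : F) (h : β + star β + α * star α = 0) :
    mat (xO α β h) = !![1, α, β; 0, 1, -star α; 0, 0, 1] := rfl

theorem xO_inv_aux (α β : F) (h : β + star β + α * star α = 0) :
    star β + star (star β) + -α * star (-α) = 0 := by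
  rw [star_star, star_neg]
  linear_combination h

theorem xO_mul_inv (α β : F) (h : β + star β + α * star α = 0) :
    xO α β h * xO (-α) (star β) (xO_inv_aux α β h) = 1 := by
  apply mat_injective
  rw [mat_mul, mat_one, mat_xO, mat_xO]
  ext i j
  fin_cases i <;> fin_cases j <;> simp [Matrix.mul_apply, Fin.sum_univ_three]
  linear_combination h

theorem xO_inv (α β : F) (h : β + star β + α * star α = 0) :
    (xO α β h)⁻¹ = xO (-α) (star β) (xO_inv_aux α β h) :=
  inv_eq_of_mul_eq_one_right (xO_mul_inv α β h)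

theorem xO_zero : xO (0 : F) 0 (by simp) = 1 := by
  apply mat_injective
  rw [mat_xO, mat_one]
  ext i j
  fin_cases i <;> fin_cases j <;> simp

theorem xO_beta_ne {α β : F} (h : β + star β + α * star α = 0) (hx : xO α β h ≠ 1) : β ≠ 0 := by
  intro e
  subst e
  have hα : α = 0 := by
    have h2 : α * star α = 0 := by simpa using h
    rcases mul_eq_zero.1 h2 with h1 | h1
    · exact h1
    · exact star_eq_zero.1 h1
  subst hα
  exact hx xO_zero

theorem rank_one_aux {α β : F} (h : β + star β + α * star α = 0) (hβ : β ≠ 0) :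
    (-(lam F) ^ 2 / β) + star (-(lam F) ^ 2 / β)
      + (-(lam F * α) / β) * star (-(lam F * α) / β) = 0 := by
  have hβ' : star β ≠ 0 := star_ne_zero.2 hβ
  have hl := lam_ne (F := F)
  simp only [star_div₀, star_neg, star_pow, star_mul', star_lam]
  field_simp
  linear_combination (-(lam F) ^ 2) * h

theorem rank_one_O {α β : F} (h : β + star β + α * star α = 0) (hβ : β ≠ 0) :
    sO F * xO α β h * sO F * (xO (-(lam F * α) / β) (-(lam F) ^ 2 / β) (rank_one_aux h hβ))⁻¹
      * sOinv F ∈ borel 3 F := by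
  have hβ' : star β ≠ 0 := star_ne_zero.2 hβ
  have hl := lam_ne (F := F)
  rw [xO_inv]
  intro a b hab
  rw [mat_mul, mat_mul, mat_mul, mat_mul, mat_sO, mat_xO, mat_xO, mat_sOinv]
  fin_cases a <;> fin_cases b
  · exact absurd hab (by decide)
  · exact absurd hab (by decide)
  · exact absurd hab (by decide)
  · simp [Matrix.mul_apply, Fin.sum_univ_three, star_lam, hl]
    field_simp
    ring
  · exact absurd hab (by decide)
  · exact absurd hab (by decide)
  · simp [Matrix.mul_apply, Fin.sum_univ_three, star_lam, hl]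
    field_simp
    linear_combination (-1 : F) * h
  · simp [Matrix.mul_apply, Fin.sum_univ_three, star_lam, hl]
    field_simp
    ring
  · exact absurd hab (by decide)

theorem fin3_lt_cases {k l : Fin 3} (h : k < l) :
    (k = 0 ∧ l = 1) ∨ (k = 0 ∧ l = 2) ∨ (k = 1 ∧ l = 2) := by
  revert k l
  decide

theorem swap02_zero : Equiv.swap (0 : Fin 3) 2 0 = 2 := rfl

theorem swap02_one : Equiv.swap (0 : Fin 3) 2 1 = 1 := rfl

theorem swap02_two : Equiv.swap (0 : Fin 3) 2 2 = 0 := rfl

theorem xO_mem_unip (α β : F) (h : β + star β + α * star α = 0) : xO α β h ∈ unip 3 F := by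
  refine ⟨?_, ?_⟩
  · intro a b hab
    rw [mat_xO]
    fin_cases a <;> fin_cases b <;> first | rfl | exact absurd hab (by decide)
  · intro a
    rw [mat_xO]
    fin_cases a <;> rfl

/-- The root data of the unitary group of degree three. -/
def dataO (F : Type*) [Field F] [StarRing F] [SkewElt F] : RData 3 F where
  s := sO F
  τ := Equiv.swap 0 2
  X := {x | ∃ (α β : F) (h : β + star β + α * star α = 0), x = xO α β h}
  P := fun k l => k < l
  s_mono := by
    intro i j hij
    rw [mat_sO]
    fin_cases i <;> fin_cases j <;> first | rfl | exact absurd rfl hij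
  s_sq := by
    intro a b hab
    rw [mat_mul, mat_sO]
    fin_cases a <;> fin_cases b <;>
      first
      | exact absurd hab (by decide)
      | simp [Matrix.mul_apply, Fin.sum_univ_three]
  X_unip := by
    rintro _ ⟨α, β, h, rfl⟩
    exact xO_mem_unip α β h
  x_supp := by
    rintro _ ⟨α, β, h, rfl⟩ k l hkl hP
    exact (xO_mem_unip α β h).1 k l (lt_of_le_of_ne (not_lt.1 hP) (Ne.symm hkl))
  P_lt := fun _ _ h => h
  P_inv := by decide
  inv_pairs := fun _ _ h _ => h
  dich := by
    intro m f hf hfc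
    have h0 : (f 2).val = m - 1 - (f 0).val := by
      rw [← th_val, ← hfc, th3_zero]
    have h1 : (f 1).val = m - 1 - (f 1).val := by
      conv_lhs => rw [← th3_one, hfc, th_val]
    have h2 : (f 0).val = m - 1 - (f 2).val := by
      rw [← th_val, ← hfc, th3_two]
    have hne : (f 0).val ≠ (f 1).val := fun e => absurd (hf (Fin.ext e)) (by decide)
    have hm0 := (f 0).2
    have hm2 := (f 2).2
    by_cases hlt : (f 0).val < (f 1).val
    · left
      intro k l hkl
      rw [Fin.lt_def]
      rcases fin3_lt_cases hkl with ⟨rfl, rfl⟩ | ⟨rfl, rfl⟩ | ⟨rfl, rfl⟩ <;> omega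
    · right
      intro k l hkl
      rw [Fin.lt_def]
      rcases fin3_lt_cases hkl with ⟨rfl, rfl⟩ | ⟨rfl, rfl⟩ | ⟨rfl, rfl⟩
      · rw [swap02_zero, swap02_one]
        omega
      · rw [swap02_zero, swap02_two]
        omega
      · rw [swap02_one, swap02_two]
        omega
  rank_one := by
    rintro _ ⟨α, β, h, rfl⟩ hx1
    have hβ := xO_beta_ne h hx1
    obtain ⟨x', hx'⟩ : ∃ x', x' = xO (-(lam F * α) / β) (-(lam F) ^ 2 / β) (rank_one_aux h hβ) :=
      ⟨_, rfl⟩
    refine ⟨sO F * xO α β h * (sO F * x' * (sO F)⁻¹)⁻¹, ?_, x', ⟨_, _, _, hx'⟩,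
      (inv_mul_cancel_right _ _).symm⟩
    have e1 : sO F * xO α β h * (sO F * x' * (sO F)⁻¹)⁻¹
        = sO F * xO α β h * sO F * x'⁻¹ * sOinv F := by
      rw [← sO_inv]
      group
    rw [e1, hx']
    exact rank_one_O h hβ
  nontriv := by
    have h : lam F + star (lam F) + 0 * star (0 : F) = 0 := by
      rw [star_lam]
      ring
    refine ⟨xO 0 (lam F) h, ⟨_, _, h, rfl⟩, 0, 2, by decide, ?_⟩
    rw [mat_xO]
    exact lam_ne

end

end Cfsg.Agent.Lib.Helper5.SUBN
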