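import Mathlib
import Cfsg.Agent.Lib.Helper5.SUBN.Root
import Cfsg.Agent.Lib.Helper5.SUBN.Emb

set_option autoImplicit false

/-!
Transport of root data along an embedding of unitary groups.
-/

namespace Cfsg.Agent.Lib.Helper5.SUBN

open Matrix Cfsg.Agent.Lib.Helper5.SLnBN

section
variable {r n : ℕ} {F : Type*} [Field F] [StarRing F]

/-- The image of root data under an embedding. -/
noncomputable def RData.map (R : RData r F) (p : SEmb r n)
    (hconv : ∀ (c : p.Cmp) (i : Fin r), c.1 < p.toFun i ↔ c.1 < p.toFun (R.τ i)) :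
    RData n F where
  s := p.embU R.s
  τ := p.extPerm R.τ
  X := p.embU '' R.X
  P := fun k l => ∃ i j, R.P i j ∧ p.toFun i = k ∧ p.toFun j = l
  s_mono := p.isMono_emb R.s_mono
  s_sq := by
    rw [← map_mul]
    exact p.embU_mem_borel R.s_sq
  X_unip := by
    rintro _ ⟨x, hx, rfl⟩
    exact p.embU_mem_unip (R.X_unip x hx)
  x_supp := by
    rintro _ ⟨x, hx, rfl⟩ k l hkl hP
    rw [p.mat_embU]
    rcases p.cases k with ⟨i, rfl⟩ | ⟨c, rfl⟩ <;> rcases p.cases l with ⟨j, rfl⟩ | ⟨d, rfl⟩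
    · rw [p.emb_pp]
      apply R.x_supp x hx
      · intro e
        exact hkl (by rw [e])
      · intro h
        exact hP ⟨i, j, h, rfl, rfl⟩
    · rw [p.emb_pc]
    · rw [p.emb_cp]
    · rw [p.emb_cc, if_neg]
      intro e
      exact hkl (by rw [e])
  P_lt := by
    rintro k l ⟨i, j, h, rfl, rfl⟩
    exact p.lt_iff.2 (R.P_lt i j h)
  P_inv := by
    rintro k l ⟨i, j, h, rfl, rfl⟩
    rw [p.extPerm_p, p.extPerm_p]
    exact p.lt_iff.2 (R.P_inv i j h)
  inv_pairs := by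
    intro k l hkl hτ
    rcases p.cases k with ⟨i, rfl⟩ | ⟨c, rfl⟩ <;> rcases p.cases l with ⟨j, rfl⟩ | ⟨d, rfl⟩
    · rw [p.extPerm_p, p.extPerm_p] at hτ
      exact ⟨i, j, R.inv_pairs i j (p.lt_iff.1 hkl) (p.lt_iff.1 hτ), rfl, rfl⟩
    · exfalso
      rw [p.extPerm_p, p.extPerm_c] at hτ
      exact lt_asymm hkl ((hconv d i).2 hτ)
    · exfalso
      rw [p.extPerm_p, p.extPerm_c] at hτ
      exact lt_asymm hτ ((hconv c j).1 hkl)
    · exfalso
      rw [p.extPerm_c, p.extPerm_c] at hτ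
      exact lt_asymm hkl hτ
  dich := by
    intro m f hf hfc
    rcases R.dich m (f ∘ p.toFun) (hf.comp p.injective) (fun i => by
      rw [Function.comp_apply, Function.comp_apply, p.rev, hfc]) with h | h
    · left
      rintro k l ⟨i, j, hP, rfl, rfl⟩
      exact h i j hP
    · right
      rintro k l ⟨i, j, hP, rfl, rfl⟩
      rw [p.extPerm_p, p.extPerm_p]
      exact h i j hP
  rank_one := by
    rintro _ ⟨x, hx, rfl⟩ hx1
    have hx1' : x ≠ 1 := by
      intro e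
      apply hx1
      rw [e, map_one]
    obtain ⟨β, hβ, x', hx', e⟩ := R.rank_one x hx hx1'
    refine ⟨p.embU β, p.embU_mem_borel hβ, p.embU x', ⟨x', hx', rfl⟩, ?_⟩
    rw [← map_mul, e, map_mul, map_mul, map_mul, map_inv]
  nontriv := by
    obtain ⟨x, hx, k, l, hP, hne⟩ := R.nontriv
    refine ⟨p.embU x, ⟨x, hx, rfl⟩, p.toFun k, p.toFun l, ⟨k, l, hP, rfl, rfl⟩, ?_⟩
    rw [p.mat_embU, p.emb_pp]
    exact hne

theorem RData.map_s (R : RData r F) (p : SEmb r n)
    (hconv : ∀ (c : p.Cmp) (i : Fin r), c.1 < p.toFun i ↔ c.1 < p.toFun (R.τ i)) :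
    (R.map p hconv).s = p.embU R.s := rfl

theorem RData.map_τ (R : RData r F) (p : SEmb r n)
    (hconv : ∀ (c : p.Cmp) (i : Fin r), c.1 < p.toFun i ↔ c.1 < p.toFun (R.τ i)) :
    (R.map p hconv).τ = p.extPerm R.τ := rfl

theorem RData.map_X (R : RData r F) (p : SEmb r n)
    (hconv : ∀ (c : p.Cmp) (i : Fin r), c.1 < p.toFun i ↔ c.1 < p.toFun (R.τ i)) :
    (R.map p hconv).X = p.embU '' R.X := rfl

theorem RData.map_P (R : RData r F) (p : SEmb r n)
    (hconv : ∀ (c : p.Cmp) (i : Fin r), c.1 < p.toFun i ↔ c.1 < p.toFun (R.τ i)) (k l : Fin n) :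
    (R.map p hconv).P k l ↔ ∃ i j, R.P i j ∧ p.toFun i = k ∧ p.toFun j = l := Iff.rfl

end

end Cfsg.Agent.Lib.Helper5.SUBN
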