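import Mathlib
import Cfsg.Agent.Lib.Helper5.SUBN.Push
import Cfsg.Agent.Lib.Helper5.SUBN.NodeL
import Cfsg.Agent.Lib.Helper5.SUBN.NodeO

set_option autoImplicit false

/-!
The symmetric embeddings of index sets and the root data of the simple roots of the unitary
group of degree `n`.
-/

namespace Cfsg.Agent.Lib.Helper5.SUBN

open Matrix Cfsg.Agent.Lib.Helper5.SLnBN Cfsg.Agent.Lib.Helper5.PSL2Aut

section
variable {n : ℕ}

/-- The symmetric embedding of `Fin r` into `Fin n` with `m` indices omitted at both ends. -/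
def pSym (r m n : ℕ) (h : 2 * m + r ≤ n) (hodd : r % 2 = 1 → 2 * m + r = n) : SEmb r n where
  toFun i := ⟨if 2 * i.val + 1 ≤ r then m + i.val else n - r - m + i.val, by
    have := i.2
    split_ifs <;> omega⟩
  mono := by
    intro i j hij
    rw [Fin.lt_def] at hij ⊢
    have := i.2
    have := j.2
    simp only
    split_ifs <;> omega
  rev := by
    intro i
    apply Fin.ext
    have := i.2
    by_cases hr : r % 2 = 1
    · have := hodd hr
      simp only [th_val]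
      split_ifs <;> omega
    · simp only [th_val]
      split_ifs <;> omega

theorem pSym_val (r m n : ℕ) (h : 2 * m + r ≤ n) (hodd : r % 2 = 1 → 2 * m + r = n) (i : Fin r) :
    ((pSym r m n h hodd).toFun i).val
      = if 2 * i.val + 1 ≤ r then m + i.val else n - r - m + i.val := rfl

/-- The embedding of the index set of a linear node. -/
def pL (j n : ℕ) (h : 2 * j + 4 ≤ n) : SEmb 4 n := pSym 4 j n h (by norm_num)

/-- The embedding of the index set of the last node in even degree. -/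
def pE (j n : ℕ) (h : 2 * j + 2 = n) : SEmb 2 n := pSym 2 j n (by omega) (by norm_num)

/-- The embedding of the index set of the last node in odd degree. -/
def pO (j n : ℕ) (h : 2 * j + 3 = n) : SEmb 3 n := pSym 3 j n (by omega) (fun _ => h)

theorem pL_zero (j n : ℕ) (h : 2 * j + 4 ≤ n) : ((pL j n h).toFun 0).val = j := rfl

theorem pL_one (j n : ℕ) (h : 2 * j + 4 ≤ n) : ((pL j n h).toFun 1).val = j + 1 := rfl

theorem pL_two (j n : ℕ) (h : 2 * j + 4 ≤ n) : ((pL j n h).toFun 2).val = n - 2 - j := by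
  show (if 2 * 2 + 1 ≤ 4 then j + 2 else n - 4 - j + 2) = _
  rw [if_neg (by norm_num)]
  omega

theorem pL_three (j n : ℕ) (h : 2 * j + 4 ≤ n) : ((pL j n h).toFun 3).val = n - 1 - j := by
  show (if 2 * 3 + 1 ≤ 4 then j + 3 else n - 4 - j + 3) = _
  rw [if_neg (by norm_num)]
  omega

theorem pE_zero (j n : ℕ) (h : 2 * j + 2 = n) : ((pE j n h).toFun 0).val = j := rfl

theorem pE_one (j n : ℕ) (h : 2 * j + 2 = n) : ((pE j n h).toFun 1).val = j + 1 := by
  show (if 2 * 1 + 1 ≤ 2 then j + 1 else n - 2 - j + 1) = _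
  rw [if_neg (by norm_num)]
  omega

theorem pO_zero (j n : ℕ) (h : 2 * j + 3 = n) : ((pO j n h).toFun 0).val = j := rfl

theorem pO_one (j n : ℕ) (h : 2 * j + 3 = n) : ((pO j n h).toFun 1).val = j + 1 := rfl

theorem pO_two (j n : ℕ) (h : 2 * j + 3 = n) : ((pO j n h).toFun 2).val = j + 2 := by
  show (if 2 * 2 + 1 ≤ 3 then j + 2 else n - 3 - j + 2) = _
  rw [if_neg (by norm_num)]
  omega

theorem pL_cmp (j n : ℕ) (h : 2 * j + 4 ≤ n) (c : (pL j n h).Cmp) :
    c.1.val ≠ j ∧ c.1.val ≠ j + 1 ∧ c.1.val ≠ n - 2 - j ∧ c.1.val ≠ n - 1 - j := by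
  refine ⟨fun e => c.2 0 (Fin.ext ?_), fun e => c.2 1 (Fin.ext ?_),
    fun e => c.2 2 (Fin.ext ?_), fun e => c.2 3 (Fin.ext ?_)⟩
  · rw [pL_zero, e]
  · rw [pL_one, e]
  · rw [pL_two, e]
  · rw [pL_three, e]

theorem pE_cmp (j n : ℕ) (h : 2 * j + 2 = n) (c : (pE j n h).Cmp) :
    c.1.val ≠ j ∧ c.1.val ≠ j + 1 := by
  refine ⟨fun e => c.2 0 (Fin.ext ?_), fun e => c.2 1 (Fin.ext ?_)⟩
  · rw [pE_zero, e]
  · rw [pE_one, e]

theorem pO_cmp (j n : ℕ) (h : 2 * j + 3 = n) (c : (pO j n h).Cmp) :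
    c.1.val ≠ j ∧ c.1.val ≠ j + 1 ∧ c.1.val ≠ j + 2 := by
  refine ⟨fun e => c.2 0 (Fin.ext ?_), fun e => c.2 1 (Fin.ext ?_), fun e => c.2 2 (Fin.ext ?_)⟩
  · rw [pO_zero, e]
  · rw [pO_one, e]
  · rw [pO_two, e]

end

section
variable {n : ℕ} {F : Type*} [Field F] [StarRing F]

theorem hconvL (j n : ℕ) (h : 2 * j + 4 ≤ n) (c : (pL j n h).Cmp) (i : Fin 4) :
    c.1 < (pL j n h).toFun i ↔ c.1 < (pL j n h).toFun ((dataL F).τ i) := by
  obtain ⟨h0, h1, h2, h3⟩ := pL_cmp j n h c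
  rw [Fin.lt_def, Fin.lt_def]
  show _ ↔ c.1.val < ((pL j n h).toFun ((Equiv.swap (0 : Fin 4) 1 * Equiv.swap 2 3 :
    Equiv.Perm (Fin 4)) i)).val
  fin_cases i
  · show _ ↔ c.1.val < ((pL j n h).toFun ((Equiv.swap (0 : Fin 4) 1 * Equiv.swap 2 3 :
      Equiv.Perm (Fin 4)) 0)).val
    rw [swap4_zero]
    show c.1.val < ((pL j n h).toFun 0).val ↔ _
    rw [pL_zero, pL_one]
    omega
  · show _ ↔ c.1.val < ((pL j n h).toFun ((Equiv.swap (0 : Fin 4) 1 * Equiv.swap 2 3 :
      Equiv.Perm (Fin 4)) 1)).val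
    rw [swap4_one]
    show c.1.val < ((pL j n h).toFun 1).val ↔ _
    rw [pL_zero, pL_one]
    omega
  · show _ ↔ c.1.val < ((pL j n h).toFun ((Equiv.swap (0 : Fin 4) 1 * Equiv.swap 2 3 :
      Equiv.Perm (Fin 4)) 2)).val
    rw [swap4_two]
    show c.1.val < ((pL j n h).toFun 2).val ↔ _
    rw [pL_two, pL_three]
    omega
  · show _ ↔ c.1.val < ((pL j n h).toFun ((Equiv.swap (0 : Fin 4) 1 * Equiv.swap 2 3 :
      Equiv.Perm (Fin 4)) 3)).val
    rw [swap4_three]
    show c.1.val < ((pL j n h).toFun 3).val ↔ _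
    rw [pL_two, pL_three]
    omega

end

section
variable {n : ℕ} {F : Type*} [Field F] [StarRing F] [SkewElt F]

theorem swap01_zero : Equiv.swap (0 : Fin 2) 1 0 = 1 := rfl

theorem swap01_one : Equiv.swap (0 : Fin 2) 1 1 = 0 := rfl

theorem hconvE (j n : ℕ) (h : 2 * j + 2 = n) (c : (pE j n h).Cmp) (i : Fin 2) :
    c.1 < (pE j n h).toFun i ↔ c.1 < (pE j n h).toFun ((dataE F).τ i) := by
  obtain ⟨h0, h1⟩ := pE_cmp j n h c
  rw [Fin.lt_def, Fin.lt_def]
  show _ ↔ c.1.val < ((pE j n h).toFun (Equiv.swap (0 : Fin 2) 1 i)).val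
  fin_cases i
  · show c.1.val < ((pE j n h).toFun 0).val
      ↔ c.1.val < ((pE j n h).toFun (Equiv.swap (0 : Fin 2) 1 0)).val
    rw [swap01_zero, pE_zero, pE_one]
    omega
  · show c.1.val < ((pE j n h).toFun 1).val
      ↔ c.1.val < ((pE j n h).toFun (Equiv.swap (0 : Fin 2) 1 1)).val
    rw [swap01_one, pE_zero, pE_one]
    omega

theorem hconvO (j n : ℕ) (h : 2 * j + 3 = n) (c : (pO j n h).Cmp) (i : Fin 3) :
    c.1 < (pO j n h).toFun i ↔ c.1 < (pO j n h).toFun ((dataO F).τ i) := by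
  obtain ⟨h0, h1, h2⟩ := pO_cmp j n h c
  rw [Fin.lt_def, Fin.lt_def]
  show _ ↔ c.1.val < ((pO j n h).toFun (Equiv.swap (0 : Fin 3) 2 i)).val
  fin_cases i
  · show c.1.val < ((pO j n h).toFun 0).val
      ↔ c.1.val < ((pO j n h).toFun (Equiv.swap (0 : Fin 3) 2 0)).val
    rw [swap02_zero, pO_zero, pO_two]
    omega
  · show c.1.val < ((pO j n h).toFun 1).val
      ↔ c.1.val < ((pO j n h).toFun (Equiv.swap (0 : Fin 3) 2 1)).val
    rw [swap02_one]
  · show c.1.val < ((pO j n h).toFun 2).val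
      ↔ c.1.val < ((pO j n h).toFun (Equiv.swap (0 : Fin 3) 2 2)).val
    rw [swap02_two, pO_zero, pO_two]
    omega

/-- The root data of the linear nodes. -/
noncomputable def nodeL (j n : ℕ) (F : Type*) [Field F] [StarRing F] (h : 2 * j + 4 ≤ n) :
    RData n F := (dataL F).map (pL j n h) (hconvL j n h)

/-- The root data of the last node in even degree. -/
noncomputable def nodeE (j n : ℕ) (F : Type*) [Field F] [StarRing F] [SkewElt F]
    (h : 2 * j + 2 = n) : RData n F := (dataE F).map (pE j n h) (hconvE j n h)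

/-- The root data of the last node in odd degree. -/
noncomputable def nodeO (j n : ℕ) (F : Type*) [Field F] [StarRing F] [SkewElt F]
    (h : 2 * j + 3 = n) : RData n F := (dataO F).map (pO j n h) (hconvO j n h)

end

end Cfsg.Agent.Lib.Helper5.SUBN
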