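import Mathlib
import Cfsg.Agent.Lib.Helper5.SUBN.Nodes

set_option autoImplicit false

/-!
Splitting off root elements from the elements of the Borel subgroup of the unitary group.
-/

namespace Cfsg.Agent.Lib.Helper5.SUBN

open Matrix Cfsg.Agent.Lib.Helper5.SLnBN Cfsg.Agent.Lib.Helper5.PSL2Aut

section
variable {n : ℕ} {F : Type*} [Field F] [StarRing F]

theorem split_nodeL (j n : ℕ) (h : 2 * j + 4 ≤ n) : (nodeL j n F h).Split := by
  intro g hg
  have hab : ((pL j n h).toFun 1).val = ((pL j n h).toFun 0).val + 1 := by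
    rw [pL_one, pL_zero]
  have haa := borel_diag_ne_zero hg ((pL j n h).toFun 0)
  obtain ⟨c, hc⟩ : ∃ c : F, c = mat g ((pL j n h).toFun 0) ((pL j n h).toFun 1)
      / mat g ((pL j n h).toFun 0) ((pL j n h).toFun 0) := ⟨_, rfl⟩
  refine ⟨(pL j n h).embU (psi (xm c)), ⟨psi (xm c), ⟨c, rfl⟩, rfl⟩, ?_⟩
  have hx : ((pL j n h).embU (psi (xm c)))⁻¹ = (pL j n h).embU (psi (xm (-c))) := by
    rw [← map_inv, ← map_inv, xm_inv]
  have hB : g * ((pL j n h).embU (psi (xm c)))⁻¹ ∈ borel n F :=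
    (borel n F).mul_mem hg ((borel n F).inv_mem ((pL j n h).embU_mem_borel (psi_xm_mem_unip c).1))
  have h01 : mat (g * ((pL j n h).embU (psi (xm c)))⁻¹) ((pL j n h).toFun 0) ((pL j n h).toFun 1)
      = 0 := by
    rw [hx, mat_mul, (pL j n h).mat_embU, (pL j n h).mul_emb_p, Fin.sum_univ_four]
    unfold xm
    rw [mat_psi_mk2]
    simp only [Matrix.of_apply, Matrix.cons_val', Matrix.cons_val_zero, Matrix.cons_val_one,
      Matrix.cons_val_fin_one, Matrix.cons_val, mul_one, mul_zero, add_zero]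
    rw [hc]
    field_simp
    ring
  rintro k l ⟨i, i', hP, rfl, rfl⟩
  rcases hP with ⟨rfl, rfl⟩ | ⟨rfl, rfl⟩
  · exact h01
  · have := borel_super_zero hB hab h01
    rwa [← (pL j n h).rev, ← (pL j n h).rev, th4_one, th4_zero] at this

/-- The row relation of an upper triangular unitary matrix at an index whose interval to its
mirror image is the range of an embedding. -/
theorem row_rel_mid {r : ℕ} (p : SEmb r n) {g : UGt n F} (hg : g ∈ borel n F) (i0 : Fin r)
    (hne : p.toFun i0 ≠ th (p.toFun i0))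
    (hc : ∀ c : p.Cmp, c.1 < p.toFun i0 ∨ th (p.toFun i0) < c.1) :
    ∑ i, mat g (p.toFun i0) (p.toFun i) * star (mat g (p.toFun i0) (p.toFun (th i))) = 0 := by
  have h1 := row_rel g (p.toFun i0) (th (p.toFun i0))
  rw [th_th, if_neg hne, ← Equiv.sum_comp p.eqv, Fintype.sum_sum_type] at h1
  have h2 : ∑ c : p.Cmp, mat g (p.toFun i0) (p.eqv (Sum.inr c))
      * star (mat g (p.toFun i0) (th (p.eqv (Sum.inr c)))) = 0 := by
    apply Finset.sum_eq_zero
    intro c _
    rw [p.eqv_inr]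
    rcases hc c with h | h
    · rw [hg _ _ h, zero_mul]
    · have h' : th c.1 < p.toFun i0 := by
        rw [← th_lt_th, th_th]
        exact h
      rw [hg _ _ h', star_zero, mul_zero]
  rw [h2, add_zero] at h1
  rw [← h1]
  apply Finset.sum_congr rfl
  intro i _
  rw [p.eqv_inl, p.rev]

end

section
variable {n : ℕ} {F : Type*} [Field F] [StarRing F] [SkewElt F]

theorem split_nodeE (j n : ℕ) (h : 2 * j + 2 = n) : (nodeE j n F h).Split := by
  intro g hg
  have haa := borel_diag_ne_zero hg ((pE j n h).toFun 0)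
  have haa' : star (mat g ((pE j n h).toFun 0) ((pE j n h).toFun 0)) ≠ 0 := star_ne_zero.2 haa
  have hne : (pE j n h).toFun 0 ≠ th ((pE j n h).toFun 0) := by
    rw [← (pE j n h).rev, th2_zero]
    intro e
    exact absurd ((pE j n h).injective e) (by decide)
  have hrel := row_rel_mid (pE j n h) hg 0 hne (by
    intro c
    obtain ⟨h0, h1⟩ := pE_cmp j n h c
    rw [Fin.lt_def, Fin.lt_def, th_val, pE_zero]
    omega)
  rw [Fin.sum_univ_two, th2_zero, th2_one] at hrel
  obtain ⟨c, hc⟩ : ∃ c : F, c = mat g ((pE j n h).toFun 0) ((pE j n h).toFun 1)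
      / mat g ((pE j n h).toFun 0) ((pE j n h).toFun 0) := ⟨_, rfl⟩
  have hskew : star c = -c := by
    rw [hc, star_div₀]
    field_simp
    linear_combination hrel
  refine ⟨(pE j n h).embU (xE c hskew), ⟨xE c hskew, ⟨c, hskew, rfl⟩, rfl⟩, ?_⟩
  have hx : ((pE j n h).embU (xE c hskew))⁻¹
      = (pE j n h).embU (xE (-c) (by rw [star_neg, hskew])) := by
    rw [← map_inv, xE_inv]
  rintro k l ⟨i, i', ⟨rfl, rfl⟩, rfl, rfl⟩
  rw [hx, mat_mul, (pE j n h).mat_embU, (pE j n h).mul_emb_p, Fin.sum_univ_two, mat_xE]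
  simp only [Matrix.of_apply, Matrix.cons_val', Matrix.cons_val_zero, Matrix.cons_val_one,
    Matrix.cons_val_fin_one, mul_one]
  rw [hc]
  field_simp
  ring

theorem split_nodeO (j n : ℕ) (h : 2 * j + 3 = n) : (nodeO j n F h).Split := by
  intro g hg
  have haa := borel_diag_ne_zero hg ((pO j n h).toFun 0)
  have haa' : star (mat g ((pO j n h).toFun 0) ((pO j n h).toFun 0)) ≠ 0 := star_ne_zero.2 haa
  have hab : ((pO j n h).toFun 1).val = ((pO j n h).toFun 0).val + 1 := by
    rw [pO_one, pO_zero]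
  have hne : (pO j n h).toFun 0 ≠ th ((pO j n h).toFun 0) := by
    rw [← (pO j n h).rev, th3_zero]
    intro e
    exact absurd ((pO j n h).injective e) (by decide)
  have hrel := row_rel_mid (pO j n h) hg 0 hne (by
    intro c
    obtain ⟨h0, h1, h2⟩ := pO_cmp j n h c
    rw [Fin.lt_def, Fin.lt_def, th_val, pO_zero]
    omega)
  rw [Fin.sum_univ_three, th3_zero, th3_one, th3_two] at hrel
  obtain ⟨α, hα⟩ : ∃ α : F, α = mat g ((pO j n h).toFun 0) ((pO j n h).toFun 1)
      / mat g ((pO j n h).toFun 0) ((pO j n h).toFun 0) := ⟨_, rfl⟩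
  obtain ⟨β, hβ⟩ : ∃ β : F, β = mat g ((pO j n h).toFun 0) ((pO j n h).toFun 2)
      / mat g ((pO j n h).toFun 0) ((pO j n h).toFun 0) := ⟨_, rfl⟩
  have hrel' : β + star β + α * star α = 0 := by
    rw [hα, hβ, star_div₀, star_div₀]
    field_simp
    linear_combination hrel
  refine ⟨(pO j n h).embU (xO α β hrel'), ⟨xO α β hrel', ⟨α, β, hrel', rfl⟩, rfl⟩, ?_⟩
  have hx : ((pO j n h).embU (xO α β hrel'))⁻¹
      = (pO j n h).embU (xO (-α) (star β) (xO_inv_aux α β hrel')) := by
    rw [← map_inv, xO_inv]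
  have hB : g * ((pO j n h).embU (xO α β hrel'))⁻¹ ∈ borel n F :=
    (borel n F).mul_mem hg ((borel n F).inv_mem ((pO j n h).embU_mem_borel (xO_mem_unip α β hrel').1))
  have h01 : mat (g * ((pO j n h).embU (xO α β hrel'))⁻¹) ((pO j n h).toFun 0)
      ((pO j n h).toFun 1) = 0 := by
    rw [hx, mat_mul, (pO j n h).mat_embU, (pO j n h).mul_emb_p, Fin.sum_univ_three, mat_xO]
    simp only [Matrix.of_apply, Matrix.cons_val', Matrix.cons_val_zero, Matrix.cons_val_one,
      Matrix.cons_val_fin_one, Matrix.cons_val, mul_one, mul_zero, add_zero]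
    rw [hα]
    field_simp
    ring
  have h02 : mat (g * ((pO j n h).embU (xO α β hrel'))⁻¹) ((pO j n h).toFun 0)
      ((pO j n h).toFun 2) = 0 := by
    rw [hx, mat_mul, (pO j n h).mat_embU, (pO j n h).mul_emb_p, Fin.sum_univ_three, mat_xO]
    simp only [Matrix.of_apply, Matrix.cons_val', Matrix.cons_val_zero, Matrix.cons_val_one,
      Matrix.cons_val_fin_one, Matrix.cons_val, mul_one, star_neg, neg_neg]
    have e1 : mat g ((pO j n h).toFun 0) ((pO j n h).toFun 1)
        = α * mat g ((pO j n h).toFun 0) ((pO j n h).toFun 0) := by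
      rw [hα]
      field_simp
    have e2 : mat g ((pO j n h).toFun 0) ((pO j n h).toFun 2)
        = β * mat g ((pO j n h).toFun 0) ((pO j n h).toFun 0) := by
      rw [hβ]
      field_simp
    rw [e1, e2]
    linear_combination (mat g ((pO j n h).toFun 0) ((pO j n h).toFun 0)) * hrel'
  have h12 := borel_super_zero hB hab h01
  rw [← (pO j n h).rev, ← (pO j n h).rev, th3_one, th3_zero] at h12
  rintro k l ⟨i, i', hP, rfl, rfl⟩
  rcases fin3_lt_cases hP with ⟨rfl, rfl⟩ | ⟨rfl, rfl⟩ | ⟨rfl, rfl⟩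
  · exact h01
  · exact h02
  · exact h12

end

end Cfsg.Agent.Lib.Helper5.SUBN
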