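import Mathlib
import Cfsg.Agent.Lib.Helper5.SUBN.Split

set_option autoImplicit false

/-!
The distinguished generators and the subgroup `N` of the unitary group.
-/

namespace Cfsg.Agent.Lib.Helper5.SUBN

open Matrix Cfsg.Agent.Lib.Helper5.SLnBN Cfsg.Agent.Lib.Helper5.PSL2Aut

section
variable {r n : ℕ} {F : Type*} [Field F] [StarRing F]

theorem RData.map_τ_fix (R : RData r F) (p : SEmb r n)
    (hconv : ∀ (c : p.Cmp) (i : Fin r), c.1 < p.toFun i ↔ c.1 < p.toFun (R.τ i)) (a : Fin n)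
    (ha : ∀ i, p.toFun i ≠ a) : (R.map p hconv).τ a = a :=
  p.extPerm_c R.τ ⟨a, ha⟩

theorem RData.map_τ_move (R : RData r F) (p : SEmb r n)
    (hconv : ∀ (c : p.Cmp) (i : Fin r), c.1 < p.toFun i ↔ c.1 < p.toFun (R.τ i)) (i : Fin r)
    (hi : R.τ i ≠ i) : (R.map p hconv).τ (p.toFun i) ≠ p.toFun i := by
  rw [RData.map_τ, p.extPerm_p]
  intro e
  exact hi (p.injective e)

theorem SEmb.ne_of_lt {r n : ℕ} [NeZero r] (p : SEmb r n) (a : Fin n)
    (ha : a < p.toFun 0) (i : Fin r) : p.toFun i ≠ a := by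
  intro e
  have h1 : p.toFun 0 ≤ p.toFun i := p.mono.monotone (Fin.zero_le i)
  rw [e] at h1
  exact absurd ha (not_lt.2 h1)

end

section
variable {n : ℕ} {F : Type*} [Field F] [StarRing F] [SkewElt F]

/-- The root data of the simple roots. -/
noncomputable def node (n : ℕ) (F : Type*) [Field F] [StarRing F] [SkewElt F] (j : ℕ)
    (hj : 2 * j + 2 ≤ n) : RData n F :=
  if h : 2 * j + 4 ≤ n then nodeL j n F h
  else if h3 : 2 * j + 3 = n then nodeO j n F h3
  else nodeE j n F (by omega)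

theorem node_split (j : ℕ) (hj : 2 * j + 2 ≤ n) : (node n F j hj).Split := by
  unfold node
  split_ifs with h h3
  · exact split_nodeL j n h
  · exact split_nodeO j n h3
  · exact split_nodeE j n _

theorem node_τ_fix (j : ℕ) (hj : 2 * j + 2 ≤ n) (a : Fin n) (ha : a.val < j) :
    (node n F j hj).τ a = a := by
  unfold node
  split_ifs with h h3
  · apply RData.map_τ_fix
    apply SEmb.ne_of_lt
    rw [Fin.lt_def, pL_zero]
    exact ha
  · apply RData.map_τ_fix
    apply SEmb.ne_of_lt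
    rw [Fin.lt_def, pO_zero]
    exact ha
  · apply RData.map_τ_fix
    apply SEmb.ne_of_lt
    rw [Fin.lt_def, pE_zero]
    exact ha

theorem node_τ_move (j : ℕ) (hj : 2 * j + 2 ≤ n) :
    ∃ a : Fin n, a.val = j ∧ (node n F j hj).τ a ≠ a := by
  unfold node
  split_ifs with h h3
  · exact ⟨(pL j n h).toFun 0, pL_zero j n h, RData.map_τ_move _ _ _ 0 (by
      show (Equiv.swap (0 : Fin 4) 1 * Equiv.swap 2 3 : Equiv.Perm (Fin 4)) 0 ≠ 0
      decide)⟩
  · exact ⟨(pO j n h3).toFun 0, pO_zero j n h3, RData.map_τ_move _ _ _ 0 (by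
      show Equiv.swap (0 : Fin 3) 2 0 ≠ 0
      decide)⟩
  · exact ⟨(pE j n (by omega)).toFun 0, pE_zero j n _, RData.map_τ_move _ _ _ 0 (by
      show Equiv.swap (0 : Fin 2) 1 0 ≠ 0
      decide)⟩

theorem node_τ_injective {j j' : ℕ} (hj : 2 * j + 2 ≤ n) (hj' : 2 * j' + 2 ≤ n)
    (h : (node n F j hj).τ = (node n F j' hj').τ) : j = j' := by
  by_contra hne
  rcases lt_or_gt_of_ne hne with hlt | hlt
  · obtain ⟨a, ha, hmove⟩ := node_τ_move (F := F) j hj
    apply hmove
    rw [h]
    exact node_τ_fix j' hj' a (by rw [ha]; exact hlt)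
  · obtain ⟨a, ha, hmove⟩ := node_τ_move (F := F) j' hj'
    apply hmove
    rw [← h]
    exact node_τ_fix j hj a (by rw [ha]; exact hlt)

/-- The distinguished generators. -/
noncomputable def nrep (n : ℕ) (F : Type*) [Field F] [StarRing F] [SkewElt F] (j : ℕ) : UGt n F :=
  if hj : 2 * j + 2 ≤ n then (node n F j hj).s else 1

theorem nrep_of_le {j : ℕ} (hj : 2 * j + 2 ≤ n) : nrep n F j = (node n F j hj).s := dif_pos hj

/-- The set of distinguished generators. -/
def genS (n : ℕ) (F : Type*) [Field F] [StarRing F] [SkewElt F] : Set (UGt n F) :=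
  {s | ∃ (j : ℕ) (hj : 2 * j + 2 ≤ n), s = (node n F j hj).s}

/-- The subgroup `N`. -/
def weylN (n : ℕ) (F : Type*) [Field F] [StarRing F] [SkewElt F] : Subgroup (UGt n F) :=
  Subgroup.closure (genS n F) ⊔ torus n F

theorem genS_subset_mono : genS n F ⊆ (mono n F : Set (UGt n F)) := by
  rintro _ ⟨j, hj, rfl⟩
  exact (node n F j hj).s_mem_mono

theorem weylN_le_mono : weylN n F ≤ mono n F :=
  sup_le ((Subgroup.closure_le _).2 genS_subset_mono) torus_le_mono

theorem torus_le_weylN : torus n F ≤ weylN n F := le_sup_right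

theorem genS_subset_weylN : genS n F ⊆ (weylN n F : Set (UGt n F)) :=
  fun _ h => Subgroup.mem_sup_left (Subgroup.subset_closure h)

theorem borel_inf_weylN : borel n F ⊓ weylN n F = torus n F := by
  apply le_antisymm
  · rw [← borel_inf_mono]
    exact inf_le_inf_left _ weylN_le_mono
  · exact le_inf torus_le_borel torus_le_weylN

/-- Distinct generators are distinct modulo the Borel subgroup. -/
theorem node_s_inj {j j' : ℕ} (hj : 2 * j + 2 ≤ n) (hj' : 2 * j' + 2 ≤ n)
    (h : (node n F j hj).s⁻¹ * (node n F j' hj').s ∈ borel n F) : j = j' := by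
  have h1 : IsMono (mat ((node n F j hj).s⁻¹ * (node n F j' hj').s))
      ((node n F j hj).τ⁻¹ * (node n F j' hj').τ) := by
    rw [mat_mul]
    exact ((node n F j hj).s_inv_mono).mul (node n F j' hj').s_mono
  have h2 := perm_eq_one_of_borel h h1
  rw [inv_mul_eq_one] at h2
  exact node_τ_injective hj hj' h2

end

end Cfsg.Agent.Lib.Helper5.SUBN
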