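import Mathlib
import Cfsg.Agent.Lib.Helper5.SUBN.Weyl

set_option autoImplicit false

/-!
The subgroups of the unitary group whose first columns are upper triangular.
-/

namespace Cfsg.Agent.Lib.Helper5.SUBN

open Matrix Cfsg.Agent.Lib.Helper5.SLnBN Cfsg.Agent.Lib.Helper5.PSL2Aut

section
variable {n : ℕ} {F : Type*} [Field F] [StarRing F]

theorem mat_inv_eq (g : UGt n F) : mat g⁻¹ = (mat g)⁻¹ :=
  (Matrix.inv_eq_right_inv (mat_mul_inv g)).symm

/-- The subgroup of the matrices whose first `j` columns are upper triangular. -/
def par (n : ℕ) (F : Type*) [Field F] [StarRing F] (j : ℕ) : Subgroup (UGt n F) where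
  carrier := {g | (mat g).BlockTriangular (fun a : Fin n => min a.val j)}
  mul_mem' := by
    intro g h hg hh
    exact Matrix.BlockTriangular.mul hg hh
  one_mem' := Matrix.blockTriangular_one
  inv_mem' := by
    intro g hg
    show (mat g⁻¹).BlockTriangular _
    rw [mat_inv_eq]
    have : Invertible (mat g) := invertibleOfRightInverse _ _ (mat_mul_inv g)
    exact Matrix.blockTriangular_inv_of_blockTriangular hg

theorem mem_par_iff (g : UGt n F) (j : ℕ) :
    g ∈ par n F j ↔ ∀ a b : Fin n, b.val < j → b < a → mat g a b = 0 := by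
  constructor
  · intro h a b hb hab
    apply h
    rw [Fin.lt_def] at hab
    show min b.val j < min a.val j
    omega
  · intro h a b hab
    have hab' : min b.val j < min a.val j := hab
    apply h
    · omega
    · rw [Fin.lt_def]
      omega

theorem par_col {g : UGt n F} {j : ℕ} (hg : g ∈ par n F j) {a b : Fin n} (hb : b.val < j)
    (hab : b < a) : mat g a b = 0 := (mem_par_iff g j).1 hg a b hb hab

/-- The rows paired with the first columns are upper triangular as well. -/
theorem par_row {g : UGt n F} {j : ℕ} (hg : g ∈ par n F j) {b m : Fin n} (hb : b.val < j)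
    (hm : m < th b) : mat g (th b) m = 0 := by
  have h1 := par_col ((par n F j).inv_mem hg) hb (a := th m) (by
    rw [← th_lt_th, th_th]
    exact hm)
  rw [inv_apply, th_th] at h1
  exact star_eq_zero.1 h1

theorem borel_le_par (j : ℕ) : borel n F ≤ par n F j := by
  intro g hg
  rw [mem_par_iff]
  intro a b _ hab
  exact hg a b hab

theorem par_le_borel {j : ℕ} (hj : n ≤ 2 * j + 1) : par n F j ≤ borel n F := by
  intro g hg a b hab
  by_cases hb : b.val < j
  · exact par_col hg hb hab
  · have h1 : (th a).val < j := by
      rw [th_val]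
      rw [Fin.lt_def] at hab
      omega
    have h2 := par_row hg h1 (m := b) (by rw [th_th]; exact hab)
    rwa [th_th] at h2

theorem par_zero : par n F 0 = ⊤ := by
  rw [eq_top_iff]
  intro g _
  rw [mem_par_iff]
  intro a b hb
  exact absurd hb (Nat.not_lt_zero _)

/-- Embedded elements whose range lies beyond the first `j` indices. -/
theorem embU_mem_par {r : ℕ} (p : SEmb r n) (y : UGt r F) (j : ℕ)
    (hp : ∀ i, j ≤ (p.toFun i).val) : p.embU y ∈ par n F j := by
  rw [mem_par_iff]
  intro a b hb hab
  have hbc : ∀ i, p.toFun i ≠ b := by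
    intro i e
    have := hp i
    rw [e] at this
    omega
  rw [p.mat_embU]
  rcases p.cases a with ⟨i, rfl⟩ | ⟨c, rfl⟩
  · exact p.emb_pc _ i ⟨b, hbc⟩
  · have := p.emb_cc (mat y) c ⟨b, hbc⟩
    rw [this, if_neg]
    intro e
    rw [e] at hab
    exact lt_irrefl _ hab

/-- The isotropy relation of a column of a unitary matrix. -/
theorem col_iso (g : UGt n F) (col : Fin n) (hcol : th col ≠ col) :
    ∑ m, star (mat g (th m) col) * mat g m col = 0 := by
  have h := col_rel g (th col) col
  rw [th_th, if_neg hcol] at h
  exact h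

/-- The diagonal entries of the first columns do not vanish. -/
theorem par_diag_ne_zero {g : UGt n F} {j : ℕ} (hg : g ∈ par n F j) {b : Fin n} (hb : b.val < j) :
    mat g b b ≠ 0 := by
  intro h0
  have h1 := congrFun (congrFun (mat_mul_inv g) b) b
  rw [Matrix.mul_apply, Matrix.one_apply_eq, Finset.sum_eq_zero] at h1
  · exact zero_ne_one h1
  · intro c _
    rcases lt_trichotomy c b with h | h | h
    · have hc : c.val < j := by
        rw [Fin.lt_def] at h
        omega
      rw [par_col hg hc h, zero_mul]
    · rw [h, h0, zero_mul]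
    · rw [par_col ((par n F j).inv_mem hg) hb h, mul_zero]

end

end Cfsg.Agent.Lib.Helper5.SUBN
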