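import Mathlib
import Cfsg.Agent.Lib.Helper5.SUBN.Par

set_option autoImplicit false

/-!
The unitary group is generated by its Borel subgroup and the distinguished generators.
-/

namespace Cfsg.Agent.Lib.Helper5.SUBN

open Matrix Cfsg.Agent.Lib.Helper5.SLnBN Cfsg.Agent.Lib.Helper5.PSL2Aut

section
variable {n : ℕ} {F : Type*} [Field F] [StarRing F] [SkewElt F]

/-- The subgroup generated by the Borel subgroup and the distinguished generators. -/
def genH (n : ℕ) (F : Type*) [Field F] [StarRing F] [SkewElt F] : Subgroup (UGt n F) :=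
  borel n F ⊔ Subgroup.closure (genS n F)

theorem borel_le_genH : borel n F ≤ genH n F := le_sup_left

theorem node_s_mem_genH (j : ℕ) (hj : 2 * j + 2 ≤ n) : (node n F j hj).s ∈ genH n F :=
  Subgroup.mem_sup_right (Subgroup.subset_closure ⟨j, hj, rfl⟩)

theorem node_eq_L {m : ℕ} (hm : 2 * m + 4 ≤ n) (hj : 2 * m + 2 ≤ n) :
    node n F m hj = nodeL m n F hm := dif_pos hm

theorem node_eq_O {m : ℕ} (h3 : 2 * m + 3 = n) (hj : 2 * m + 2 ≤ n) :
    node n F m hj = nodeO m n F h3 := by
  unfold node
  rw [dif_neg (by omega), dif_pos h3]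

theorem node_eq_E {m : ℕ} (h2 : 2 * m + 2 = n) (hj : 2 * m + 2 ≤ n) :
    node n F m hj = nodeE m n F h2 := by
  unfold node
  rw [dif_neg (by omega), dif_neg (by omega)]

/-- The generic elimination step. -/
theorem step_generic {r : ℕ} (p : SEmb r n) (s x : UGt r F) {g : UGt n F} {j : ℕ} (i : ℕ)
    (col : Fin n) (hs : p.embU s ∈ genH n F) (hx : x ∈ borel r F)
    (hp : ∀ i', j ≤ (p.toFun i').val) (hg : g ∈ par n F j)
    (hz : ∀ a : Fin n, i < a.val → mat g a col = 0)
    (hrange : ∀ c : p.Cmp, i ≤ c.1.val → i < c.1.val)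
    (hkill : ∀ i' : Fin r, i ≤ (p.toFun i').val →
      ∑ i'', mat (s * x) i' i'' * mat g (p.toFun i'') col = 0) :
    ∃ h ∈ genH n F, h * g ∈ par n F j ∧ ∀ a : Fin n, i ≤ a.val → mat (h * g) a col = 0 := by
  refine ⟨p.embU (s * x), ?_, ?_, ?_⟩
  · rw [map_mul]
    exact (genH n F).mul_mem hs (borel_le_genH (p.embU_mem_borel hx))
  · exact (par n F j).mul_mem (embU_mem_par p _ j hp) hg
  · intro a ha
    rw [mat_mul, p.mat_embU]
    rcases p.cases a with ⟨i', rfl⟩ | ⟨c, rfl⟩
    · rw [p.emb_mul_p]
      exact hkill i' ha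
    · rw [p.emb_mul_c]
      exact hz _ (hrange c ha)

theorem wm_one_mul_xm' (c : F) : wm (1 : Fˣ) * xm c = mk2 0 1 (-1) (-c) (by ring) := by
  unfold wm xm
  rw [mk2_mul]
  apply mk2_congr <;> simp

theorem fin4_cases (i : Fin 4) : i = 0 ∨ i = 1 ∨ i = 2 ∨ i = 3 := by
  revert i
  decide

theorem fin3_cases (i : Fin 3) : i = 0 ∨ i = 1 ∨ i = 2 := by
  revert i
  decide

theorem pL_ge {m j : ℕ} (hm : j ≤ m) (hmn : 2 * m + 4 ≤ n) (i : Fin 4) :
    j ≤ ((pL m n hmn).toFun i).val := by
  rcases fin4_cases i with rfl | rfl | rfl | rfl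
  · rw [pL_zero]
    exact hm
  · rw [pL_one]
    omega
  · rw [pL_two]
    omega
  · rw [pL_three]
    omega

/-- The elimination step at a position in the upper half. -/
theorem stepL1 {g : UGt n F} {j m : ℕ} (hm : j ≤ m) (hmn : 2 * m + 4 ≤ n) (col : Fin n)
    (hg : g ∈ par n F j) (hz : ∀ a : Fin n, m + 1 < a.val → mat g a col = 0)
    (hne : mat g ((pL m n hmn).toFun 1) col ≠ 0) :
    ∃ h ∈ genH n F, h * g ∈ par n F j ∧ ∀ a : Fin n, m + 1 ≤ a.val → mat (h * g) a col = 0 := by
  have h2 : mat g ((pL m n hmn).toFun 2) col = 0 := hz _ (by rw [pL_two]; omega)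
  have h3 : mat g ((pL m n hmn).toFun 3) col = 0 := hz _ (by rw [pL_three]; omega)
  obtain ⟨c, hc⟩ : ∃ c : F, c = -(mat g ((pL m n hmn).toFun 0) col)
      / mat g ((pL m n hmn).toFun 1) col := ⟨_, rfl⟩
  apply step_generic (pL m n hmn) (psi (wm 1)) (psi (xm c)) (m + 1) col ?_
    (psi_xm_mem_unip c).1 (pL_ge hm hmn) hg hz
  · intro d hd
    have := (pL_cmp m n hmn d).2.1
    omega
  · intro i' hi'
    rw [← map_mul, wm_one_mul_xm', mat_psi_mk2, Fin.sum_univ_four, h2, h3]
    rcases fin4_cases i' with rfl | rfl | rfl | rfl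
    · rw [pL_zero] at hi'
      omega
    · simp only [Matrix.of_apply, Matrix.cons_val', Matrix.cons_val_zero, Matrix.cons_val_one,
        Matrix.cons_val_fin_one, Matrix.cons_val, mul_zero, add_zero]
      rw [hc]
      field_simp
      ring
    · simp
    · simp
  · have e : (pL m n hmn).embU (psi (wm 1)) = (node n F m (by omega)).s := by
      rw [node_eq_L hmn]
      rfl
    rw [e]
    exact node_s_mem_genH m _

/-- The elimination step at a position in the lower half, for a linear node. -/
theorem stepL3 {g : UGt n F} {j m : ℕ} (hm : j ≤ m) (hmn : 2 * m + 4 ≤ n) (col : Fin n)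
    (hg : g ∈ par n F j) (hz : ∀ a : Fin n, n - 1 - m < a.val → mat g a col = 0)
    (hne : mat g ((pL m n hmn).toFun 3) col ≠ 0) :
    ∃ h ∈ genH n F, h * g ∈ par n F j ∧
      ∀ a : Fin n, n - 1 - m ≤ a.val → mat (h * g) a col = 0 := by
  obtain ⟨c, hc⟩ : ∃ c : F, c = star (mat g ((pL m n hmn).toFun 2) col
      / mat g ((pL m n hmn).toFun 3) col) := ⟨_, rfl⟩
  apply step_generic (pL m n hmn) (psi (wm 1)) (psi (xm c)) (n - 1 - m) col ?_
    (psi_xm_mem_unip c).1 (pL_ge hm hmn) hg hz
  · intro d hd
    have := (pL_cmp m n hmn d).2.2.2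
    omega
  · intro i' hi'
    rw [← map_mul, wm_one_mul_xm', mat_psi_mk2, Fin.sum_univ_four]
    rcases fin4_cases i' with rfl | rfl | rfl | rfl
    · rw [pL_zero] at hi'
      omega
    · rw [pL_one] at hi'
      omega
    · rw [pL_two] at hi'
      omega
    · simp only [Matrix.of_apply, Matrix.cons_val', Matrix.cons_val_zero, Matrix.cons_val_one,
        Matrix.cons_val_fin_one, Matrix.cons_val, zero_mul, zero_add, star_neg, star_one, neg_neg,
        one_mul]
      rw [hc, star_star]
      field_simp
      ring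
  · have e : (pL m n hmn).embU (psi (wm 1)) = (node n F m (by omega)).s := by
      rw [node_eq_L hmn]
      rfl
    rw [e]
    exact node_s_mem_genH m _

/-- The isotropy relation of a column supported on the first indices, restricted to the range
of an embedding onto a middle interval. -/
theorem col_iso_mid {r : ℕ} (p : SEmb r n) (g : UGt n F) (col : Fin n) (hcol : th col ≠ col)
    (i0 : Fin r) (hz : ∀ a : Fin n, th (p.toFun i0) < a → mat g a col = 0)
    (hc : ∀ c : p.Cmp, c.1 < p.toFun i0 ∨ th (p.toFun i0) < c.1) :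
    ∑ i, star (mat g (p.toFun (th i)) col) * mat g (p.toFun i) col = 0 := by
  have h1 := col_iso g col hcol
  rw [← Equiv.sum_comp p.eqv, Fintype.sum_sum_type] at h1
  have h2 : ∑ c : p.Cmp, star (mat g (th (p.eqv (Sum.inr c))) col)
      * mat g (p.eqv (Sum.inr c)) col = 0 := by
    apply Finset.sum_eq_zero
    intro c _
    rw [p.eqv_inr]
    rcases hc c with h | h
    · rw [hz (th c.1) (th_lt_th.2 h), star_zero, zero_mul]
    · rw [hz c.1 h, mul_zero]
  rw [h2, add_zero] at h1
  rw [← h1]
  apply Finset.sum_congr rfl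
  intro i _
  rw [p.eqv_inl, p.rev]

/-- The elimination step at the last node in even degree. -/
theorem stepE {g : UGt n F} {j m : ℕ} (hm : j ≤ m) (h2 : 2 * m + 2 = n) (col : Fin n)
    (hcol : th col ≠ col) (hg : g ∈ par n F j)
    (hz : ∀ a : Fin n, m + 1 < a.val → mat g a col = 0)
    (hne : mat g ((pE m n h2).toFun 1) col ≠ 0) :
    ∃ h ∈ genH n F, h * g ∈ par n F j ∧ ∀ a : Fin n, m + 1 ≤ a.val → mat (h * g) a col = 0 := by
  have hne' : star (mat g ((pE m n h2).toFun 1) col) ≠ 0 := star_ne_zero.2 hne
  have hth : th ((pE m n h2).toFun 0) = (pE m n h2).toFun 1 := by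
    rw [← (pE m n h2).rev, th2_zero]
  have hiso := col_iso_mid (pE m n h2) g col hcol 0 (by
    intro a ha
    rw [hth, Fin.lt_def, pE_one] at ha
    exact hz a ha) (by
    intro c
    obtain ⟨h0, h1⟩ := pE_cmp m n h2 c
    rw [hth, Fin.lt_def, Fin.lt_def, pE_zero, pE_one]
    omega)
  rw [Fin.sum_univ_two, th2_zero, th2_one] at hiso
  obtain ⟨c, hc⟩ : ∃ c : F, c = -(mat g ((pE m n h2).toFun 0) col)
      / mat g ((pE m n h2).toFun 1) col := ⟨_, rfl⟩
  have hskew : star c = -c := by
    rw [hc, star_div₀, star_neg]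
    field_simp
    linear_combination (-1 : F) * hiso
  apply step_generic (pE m n h2) (sE F) (xE c hskew) (m + 1) col ?_
    ((dataE F).X_unip (xE c hskew) ⟨c, hskew, rfl⟩).1 ?_ hg hz
  · intro d hd
    have := (pE_cmp m n h2 d).2
    omega
  · intro i' hi'
    rcases fin2_cases i' with rfl | rfl
    · rw [pE_zero] at hi'
      omega
    · have hl := lam_ne (F := F)
      rw [mat_mul, mat_sE, mat_xE, Fin.sum_univ_two]
      simp [Matrix.mul_apply, Fin.sum_univ_two]
      rw [hc]
      field_simp
      ring
  · have e : (pE m n h2).embU (sE F) = (node n F m (by omega)).s := by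
      rw [node_eq_E h2]
      rfl
    rw [e]
    exact node_s_mem_genH m _
  · intro i'
    rcases fin2_cases i' with rfl | rfl
    · rw [pE_zero]
      exact hm
    · rw [pE_one]
      omega

/-- The elimination step at the last node in odd degree. -/
theorem stepO {g : UGt n F} {j m : ℕ} (hm : j ≤ m) (h3 : 2 * m + 3 = n) (col : Fin n)
    (hcol : th col ≠ col) (hg : g ∈ par n F j)
    (hz : ∀ a : Fin n, m + 2 < a.val → mat g a col = 0)
    (hne : mat g ((pO m n h3).toFun 2) col ≠ 0) :
    ∃ h ∈ genH n F, h * g ∈ par n F j ∧ ∀ a : Fin n, m + 2 ≤ a.val → mat (h * g) a col = 0 := by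
  have hne' : star (mat g ((pO m n h3).toFun 2) col) ≠ 0 := star_ne_zero.2 hne
  have hth : th ((pO m n h3).toFun 0) = (pO m n h3).toFun 2 := by
    rw [← (pO m n h3).rev, th3_zero]
  have hiso := col_iso_mid (pO m n h3) g col hcol 0 (by
    intro a ha
    rw [hth, Fin.lt_def, pO_two] at ha
    exact hz a ha) (by
    intro c
    obtain ⟨h0, h1, h2⟩ := pO_cmp m n h3 c
    rw [hth, Fin.lt_def, Fin.lt_def, pO_zero, pO_two]
    omega)
  rw [Fin.sum_univ_three, th3_zero, th3_one, th3_two] at hiso
  obtain ⟨α, hα⟩ : ∃ α : F, α = star (mat g ((pO m n h3).toFun 1) col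
      / mat g ((pO m n h3).toFun 2) col) := ⟨_, rfl⟩
  obtain ⟨β, hβ⟩ : ∃ β : F, β = -(mat g ((pO m n h3).toFun 0) col
      + α * mat g ((pO m n h3).toFun 1) col) / mat g ((pO m n h3).toFun 2) col := ⟨_, rfl⟩
  have hrel : β + star β + α * star α = 0 := by
    rw [hβ, hα]
    simp only [star_div₀, star_neg, star_add, star_mul', star_star]
    field_simp
    linear_combination (-1 : F) * hiso
  apply step_generic (pO m n h3) (sO F) (xO α β hrel) (m + 2) col ?_
    (xO_mem_unip α β hrel).1 ?_ hg hz
  · intro d hd
    have := (pO_cmp m n h3 d).2.2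
    omega
  · intro i' hi'
    rcases fin3_cases i' with rfl | rfl | rfl
    · rw [pO_zero] at hi'
      omega
    · rw [pO_one] at hi'
      omega
    · have hl := lam_ne (F := F)
      rw [mat_mul, mat_sO, mat_xO, Fin.sum_univ_three]
      simp [Matrix.mul_apply, Fin.sum_univ_three]
      rw [hβ]
      field_simp
      ring
  · have e : (pO m n h3).embU (sO F) = (node n F m (by omega)).s := by
      rw [node_eq_O h3]
      rfl
    rw [e]
    exact node_s_mem_genH m _
  · intro i'
    rcases fin3_cases i' with rfl | rfl | rfl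
    · rw [pO_zero]
      exact hm
    · rw [pO_one]
      omega
    · rw [pO_two]
      omega

/-- The middle entry of an isotropic column vanishes. -/
theorem stepMid {g : UGt n F} {i : ℕ} (hn : 2 * i + 1 = n) (col : Fin n) (hcol : th col ≠ col)
    (hz : ∀ a : Fin n, i < a.val → mat g a col = 0) (a0 : Fin n) (ha0 : a0.val = i) :
    mat g a0 col = 0 := by
  have h1 := col_iso g col hcol
  rw [Finset.sum_eq_single a0] at h1
  · have hth : th a0 = a0 := Fin.ext (by rw [th_val]; omega)
    rw [hth] at h1
    rcases mul_eq_zero.1 h1 with h | h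
    · exact star_eq_zero.1 h
    · exact h
  · intro m _ hm
    have hmi : m.val ≠ i := fun e => hm (Fin.ext (e.trans ha0.symm))
    rcases lt_or_gt_of_ne hmi with h | h
    · rw [hz (th m) (by rw [th_val]; omega), star_zero, zero_mul]
    · rw [hz m h, mul_zero]
  · intro h
    exact absurd (Finset.mem_univ _) h

theorem mem_par_succ {g : UGt n F} {j : ℕ} (hg : g ∈ par n F j) (col : Fin n) (hcol : col.val = j)
    (hz : ∀ a : Fin n, j + 1 ≤ a.val → mat g a col = 0) : g ∈ par n F (j + 1) := by
  rw [mem_par_iff]
  intro a b hb hab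
  by_cases hbj : b.val < j
  · exact par_col hg hbj hab
  · have hbc : b = col := Fin.ext (by omega)
    rw [hbc]
    apply hz
    rw [Fin.lt_def] at hab
    omega

/-- Clearing a column below the diagonal. -/
theorem elim_col (j : ℕ) (hj : 2 * j + 2 ≤ n) : ∀ (i : ℕ) (g : UGt n F), g ∈ par n F j →
    (∀ a : Fin n, i ≤ a.val → mat g a ⟨j, by omega⟩ = 0) →
    ∃ h ∈ genH n F, h * g ∈ par n F (j + 1) := by
  have hcol : th (⟨j, by omega⟩ : Fin n) ≠ ⟨j, by omega⟩ := by
    intro e
    have := congrArg Fin.val e
    rw [th_val] at this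
    simp only at this
    omega
  intro i
  induction i with
  | zero =>
    intro g hg hz
    exact ⟨1, (genH n F).one_mem, by
      rw [one_mul]
      exact mem_par_succ hg _ rfl (fun a _ => hz a (Nat.zero_le _))⟩
  | succ i ih =>
    intro g hg hz
    by_cases hij : i ≤ j
    · exact ⟨1, (genH n F).one_mem, by
        rw [one_mul]
        exact mem_par_succ hg _ rfl (fun a ha => hz a (by omega))⟩
    · by_cases hin : i < n
      · by_cases h0 : mat g ⟨i, hin⟩ ⟨j, by omega⟩ = 0
        · apply ih g hg
          intro a ha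
          by_cases hai : a.val = i
          · have : a = ⟨i, hin⟩ := Fin.ext hai
            rw [this]
            exact h0
          · exact hz a (by omega)
        · have hz' : ∀ a : Fin n, i < a.val → mat g a ⟨j, by omega⟩ = 0 := fun a ha => hz a ha
          have hbound : i ≤ n - 1 - j := by
            by_contra hcon
            apply h0
            have hb : (th (⟨i, hin⟩ : Fin n)).val < j := by
              rw [th_val]
              simp only
              omega
            have := par_row hg hb (m := ⟨j, by omega⟩) (by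
              rw [th_th, Fin.lt_def]
              simp only
              omega)
            rwa [th_th] at this
          have key : ∃ h ∈ genH n F, h * g ∈ par n F j ∧
              ∀ a : Fin n, i ≤ a.val → mat (h * g) a ⟨j, by omega⟩ = 0 := by
            by_cases hA : 2 * i + 2 ≤ n
            · obtain ⟨m, rfl⟩ : ∃ m, i = m + 1 := ⟨i - 1, by omega⟩
              have hmn : 2 * m + 4 ≤ n := by omega
              refine stepL1 (by omega) hmn _ hg hz' ?_
              have e : (pL m n hmn).toFun 1 = ⟨m + 1, hin⟩ := Fin.ext (pL_one m n hmn)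
              rw [e]
              exact h0
            · by_cases hB : 2 * i + 1 = n
              · exact absurd (stepMid hB _ hcol hz' ⟨i, hin⟩ rfl) h0
              · obtain ⟨m, hm⟩ : ∃ m, m = n - 1 - i := ⟨_, rfl⟩
                have him : i = n - 1 - m := by omega
                by_cases hC1 : 2 * m + 4 ≤ n
                · have e : (pL m n hC1).toFun 3 = ⟨i, hin⟩ :=
                    Fin.ext (by rw [pL_three]; exact him.symm)
                  have := stepL3 (j := j) (by omega) hC1 _ hg (by
                    intro a ha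
                    exact hz' a (by omega)) (by
                    rw [e]
                    exact h0)
                  obtain ⟨h, hh, hp, hzz⟩ := this
                  exact ⟨h, hh, hp, fun a ha => hzz a (by omega)⟩
                · by_cases hC2 : 2 * m + 3 = n
                  · have e : (pO m n hC2).toFun 2 = ⟨i, hin⟩ :=
                      Fin.ext (by rw [pO_two]; show m + 2 = i; omega)
                    have := stepO (j := j) (by omega) hC2 _ hcol hg (by
                      intro a ha
                      exact hz' a (by omega)) (by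
                      rw [e]
                      exact h0)
                    obtain ⟨h, hh, hp, hzz⟩ := this
                    exact ⟨h, hh, hp, fun a ha => hzz a (by omega)⟩
                  · have hC3 : 2 * m + 2 = n := by omega
                    have e : (pE m n hC3).toFun 1 = ⟨i, hin⟩ :=
                      Fin.ext (by rw [pE_one]; show m + 1 = i; omega)
                    have := stepE (j := j) (by omega) hC3 _ hcol hg (by
                      intro a ha
                      exact hz' a (by omega)) (by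
                      rw [e]
                      exact h0)
                    obtain ⟨h, hh, hp, hzz⟩ := this
                    exact ⟨h, hh, hp, fun a ha => hzz a (by omega)⟩
          obtain ⟨h₁, hh₁, hp₁, hz₁⟩ := key
          obtain ⟨h₂, hh₂, hp₂⟩ := ih (h₁ * g) hp₁ hz₁
          exact ⟨h₂ * h₁, (genH n F).mul_mem hh₂ hh₁, by rw [mul_assoc]; exact hp₂⟩
      · apply ih g hg
        intro a ha
        exact absurd a.2 (by omega)

theorem exists_mul_mem_par : ∀ j : ℕ, 2 * j ≤ n → ∀ g : UGt n F,
    ∃ h ∈ genH n F, h * g ∈ par n F j := by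
  intro j
  induction j with
  | zero =>
    intro _ g
    exact ⟨1, (genH n F).one_mem, by rw [par_zero]; exact Subgroup.mem_top _⟩
  | succ j ih =>
    intro hj g
    obtain ⟨h₁, hh₁, hp₁⟩ := ih (by omega) g
    obtain ⟨h₂, hh₂, hp₂⟩ := elim_col j (by omega) n (h₁ * g) hp₁ (fun a ha => absurd a.2 (by omega))
    exact ⟨h₂ * h₁, (genH n F).mul_mem hh₂ hh₁, by rw [mul_assoc]; exact hp₂⟩

/-- The unitary group is generated by its Borel subgroup and the distinguished generators. -/
theorem genH_eq_top : genH n F = ⊤ := by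
  rw [eq_top_iff]
  intro g _
  obtain ⟨h, hh, hp⟩ := exists_mul_mem_par (n / 2) (by omega) g
  have hb : h * g ∈ borel n F := par_le_borel (by omega) hp
  have e : g = h⁻¹ * (h * g) := by group
  rw [e]
  exact (genH n F).mul_mem ((genH n F).inv_mem hh) (borel_le_genH hb)

theorem borel_sup_weylN : borel n F ⊔ weylN n F = ⊤ := by
  rw [eq_top_iff, ← genH_eq_top]
  exact sup_le le_sup_left
    (le_trans (le_sup_left : Subgroup.closure (genS n F) ≤ weylN n F) le_sup_right)

end

end Cfsg.Agent.Lib.Helper5.SUBN
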