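import Mathlib
import Cfsg.Agent.Lib.Helper5.SUBN.Pair

set_option autoImplicit false

/-!
An element of the unitary group interchanging the upper and the lower triangular subgroups.
-/

namespace Cfsg.Agent.Lib.Helper5.SUBN

open Matrix DoubleCoset Cfsg.Agent.Lib.Helper5.SLnBN

section
variable {n : ℕ} {F : Type*} [Field F] [StarRing F]

/-- The antidiagonal matrix with the given entries. -/
def antiMat (d : Fin n → F) : Matrix (Fin n) (Fin n) F :=
  (Matrix.diagonal (fun a => d (th a))).submatrix th id

theorem antiMat_apply (d : Fin n → F) (a b : Fin n) :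
    antiMat d a b = if th a = b then d a else 0 := by
  unfold antiMat
  rw [Matrix.submatrix_apply, id, Matrix.diagonal_apply, th_th]

theorem det_antiMat (d : Fin n → F) :
    (antiMat d).det = ((Equiv.Perm.sign (th : Equiv.Perm (Fin n)) : ℤˣ) : ℤ) * ∏ a, d a := by
  unfold antiMat
  rw [Matrix.det_permute, Matrix.det_diagonal, Equiv.prod_comp th d]

theorem antiMat_mul_adj (d : Fin n → F) (hd : ∀ a, d a * star (d (th a)) = 1) :
    antiMat d * adj (antiMat d) = 1 := by
  ext a c
  rw [Matrix.mul_apply, Finset.sum_eq_single (th a)]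
  · rw [adj_apply, antiMat_apply, antiMat_apply, if_pos rfl, Matrix.one_apply]
    simp only [th_th]
    by_cases h : a = c
    · subst h
      rw [if_pos rfl, if_pos rfl]
      exact hd a
    · rw [if_neg h, if_neg (fun e => h e.symm), star_zero, mul_zero]
  · intro b _ hb
    rw [antiMat_apply, if_neg (fun e => hb e.symm), zero_mul]
  · intro h
    exact absurd (Finset.mem_univ _) h

theorem isMono_antiMat (d : Fin n → F) : IsMono (antiMat d) th := by
  intro a b hab
  rw [antiMat_apply, if_neg]
  intro e
  apply hab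
  rw [← e, th_th]

end

section
variable {n : ℕ} {F : Type*} [Field F] [StarRing F] [SkewElt F]

/-- The scalar used to correct the determinant. -/
def oppC (n : ℕ) (F : Type*) [Field F] [StarRing F] [SkewElt F] : F :=
  if Equiv.Perm.sign (th : Equiv.Perm (Fin n)) = 1 then 1 else lam F

theorem oppC_ne : oppC n F ≠ 0 := by
  unfold oppC
  split_ifs
  · exact one_ne_zero
  · exact lam_ne

theorem oppC_rel :
    ((Equiv.Perm.sign (th : Equiv.Perm (Fin n)) : ℤˣ) : ℤ) * (oppC n F * (star (oppC n F))⁻¹)
      = (1 : F) := by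
  unfold oppC
  split_ifs with h
  · rw [h]
    simp
  · have h' : Equiv.Perm.sign (th : Equiv.Perm (Fin n)) = -1 :=
      (Int.units_eq_one_or _).resolve_left h
    have hl := lam_ne (F := F)
    rw [h', star_lam]
    push_cast
    field_simp

/-- The entries of the antidiagonal element. -/
def oppD (n : ℕ) (F : Type*) [Field F] [StarRing F] [SkewElt F] (a : Fin n) : F :=
  if a.val = 0 then oppC n F else if a.val = n - 1 then (star (oppC n F))⁻¹ else 1

theorem oppD_rel (hn : 2 ≤ n) (a : Fin n) : oppD n F a * star (oppD n F (th a)) = 1 := by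
  have hc := oppC_ne (n := n) (F := F)
  have hc' : star (oppC n F) ≠ 0 := star_ne_zero.2 hc
  have ha := a.2
  unfold oppD
  rw [th_val]
  by_cases h0 : a.val = 0
  · rw [if_pos h0, if_neg (by omega), if_pos (by omega), star_inv₀, star_star]
    exact mul_inv_cancel₀ hc
  · rw [if_neg h0]
    by_cases h1 : a.val = n - 1
    · rw [if_pos h1, if_pos (by omega)]
      exact inv_mul_cancel₀ hc'
    · rw [if_neg h1, if_neg (by omega), if_neg (by omega), star_one, one_mul]

theorem prod_oppD (hn : 2 ≤ n) : ∏ a, oppD n F a = oppC n F * (star (oppC n F))⁻¹ := by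
  have h01 : (⟨0, by omega⟩ : Fin n) ≠ ⟨n - 1, by omega⟩ := by
    intro e
    have := congrArg Fin.val e
    simp only at this
    omega
  rw [Finset.prod_eq_mul (⟨0, by omega⟩ : Fin n) ⟨n - 1, by omega⟩ h01]
  · unfold oppD
    rw [if_pos rfl, if_neg (by simp only; omega), if_pos rfl]
  · intro c _ hc
    unfold oppD
    rw [if_neg (fun e => hc.1 (Fin.ext e)), if_neg (fun e => hc.2 (Fin.ext e))]
  · intro h
    exact absurd (Finset.mem_univ _) h
  · intro h
    exact absurd (Finset.mem_univ _) h

/-- An element of the unitary group with the order reversing permutation. -/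
def n0 (n : ℕ) (F : Type*) [Field F] [StarRing F] [SkewElt F] (hn : 2 ≤ n) : UGt n F :=
  mk (antiMat (oppD n F)) (by rw [det_antiMat, prod_oppD hn, oppC_rel])
    (antiMat_mul_adj _ (oppD_rel hn))

theorem n0_isMono (hn : 2 ≤ n) : IsMono (mat (n0 n F hn)) th := isMono_antiMat _

theorem n0_mem_mono (hn : 2 ≤ n) : n0 n F hn ∈ mono n F :=
  ⟨th, n0_isMono hn, fun _ => rfl⟩

/-- An element of the Borel subgroup is conjugated into the Borel subgroup by `n0` exactly if it
is diagonal. -/
theorem n0_conj_mem_borel_iff (hn : 2 ≤ n) {β : UGt n F} (hβ : β ∈ borel n F) :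
    (n0 n F hn)⁻¹ * β * n0 n F hn ∈ borel n F ↔ β ∈ torus n F := by
  constructor
  · intro h k l hkl
    have hkl' : k ≠ l := hkl
    rcases lt_or_gt_of_ne hkl' with hlt | hgt
    · have h1 : IsMono (mat (n0 n F hn)⁻¹) th⁻¹ := mono_inv (n0_isMono hn) (fun _ => rfl)
      have h2 : IsMono (mat (n0 n F hn)) (th⁻¹)⁻¹ := by
        rw [inv_inv]
        exact n0_isMono hn
      have h3 := h (th⁻¹ k) (th⁻¹ l) (by
        rw [th_inv]
        exact th_lt_th.2 hlt)
      rw [mat_mul, mat_mul, IsMono.conj_apply h1 h2] at h3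
      have h4 := mono_apply_ne_zero h1 k
      have h5 := mono_apply_ne_zero h2 (th⁻¹ l)
      rw [inv_inv, th_inv, th_th] at h5
      rcases mul_eq_zero.1 h3 with h | h
      · rcases mul_eq_zero.1 h with h | h
        · exact absurd h h4
        · exact h
      · rw [th_inv] at h
        exact absurd h h5
    · exact hβ _ _ hgt
  · intro h
    have := conj_mem_torus ((mono n F).inv_mem (n0_mem_mono hn)) h
    rw [inv_inv] at this
    exact torus_le_borel this

end

end Cfsg.Agent.Lib.Helper5.SUBN
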