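import Mathlib
import Cfsg.Agent.Lib.Helper1.BNPar
import Cfsg.Agent.Lib.Helper5.SpBN.Compl
import Cfsg.Agent.Lib.Helper5.SUBN.Pair
import Cfsg.Agent.Lib.Helper5.SUBN.Unip

set_option autoImplicit false

/-!
The unitriangular subgroup of the unitary group over a finite field of characteristic `p` has
index prime to `p`.
-/

namespace Cfsg.Agent.Lib.Helper5.SUBN

open Matrix Cfsg.Agent.Lib.Helper1 Cfsg.Agent.Lib.Helper5.SpBN

section
variable {n : ℕ} {F : Type*} [Field F] [StarRing F] [SkewElt F]

omit [SkewElt F] in
theorem borel_le_normalizer_unip :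
    borel n F ≤ Subgroup.normalizer (unip n F : Set (UGt n F)) := by
  intro b hb
  rw [Subgroup.mem_normalizer_iff]
  intro u
  constructor
  · intro hu
    exact conj_mem_unip hb hu
  · intro hu
    have := conj_mem_unip ((borel n F).inv_mem hb) hu
    rw [inv_inv] at this
    have e : b⁻¹ * (b * u * b⁻¹) * b = u := by group
    rwa [e] at this

/-- The normalizer of the unitriangular subgroup is the Borel subgroup. -/
theorem normalizer_unip : Subgroup.normalizer (unip n F : Set (UGt n F)) = borel n F := by
  have h1 := eq_parabolic_of_le (bnPair n F) _ (borel_le_normalizer_unip (n := n) (F := F))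
  have h2 : {s | s ∈ (bnPair n F).S ∧ s ∈ Subgroup.normalizer (unip n F : Set (UGt n F))} = ∅ := by
    rw [Set.eq_empty_iff_forall_notMem]
    rintro s ⟨⟨j, hj, rfl⟩, hs⟩
    rw [Subgroup.mem_normalizer_iff] at hs
    obtain ⟨x, hx, hnot⟩ := (node n F j hj).exists_conj_not_mem
    have := (hs x).1 ((node n F j hj).X_unip x hx)
    exact hnot (unip_le_borel this)
  rw [h2] at h1
  rw [h1]
  unfold Cfsg.BNPair.parabolic
  rw [Subgroup.closure_empty, sup_bot_eq]
  rfl

omit [SkewElt F] in
theorem relIndex_unip_borel : (unip n F).relIndex (borel n F) = Nat.card (torus n F) :=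
  relIndex_eq_card_of_compl' (unip n F) (torus n F) (borel n F) unip_le_borel torus_le_borel
    unip_inf_torus (fun _ hb => exists_unip_mul_torus hb)

/-- The index of the unitriangular subgroup is prime to the characteristic. -/
theorem not_dvd_index_unip [Fintype F] (p : ℕ) [Fact p.Prime] [CharP F p] :
    ¬ p ∣ (unip n F).index := by
  obtain ⟨k, hk⟩ := (isPGroup_unip (n := n) (F := F) p).exists_card_eq
  have h1 := Sylow.card_quotient_normalizer_modEq_card_quotient hk
  have h2 : Nat.card (↥(Subgroup.normalizer (unip n F : Set (UGt n F))) ⧸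
      (unip n F).comap (Subgroup.normalizer (unip n F : Set (UGt n F))).subtype)
      = (unip n F).relIndex (Subgroup.normalizer (unip n F : Set (UGt n F))) := by
    rw [Subgroup.relIndex, Subgroup.index_eq_card]
    rfl
  rw [h2, normalizer_unip, relIndex_unip_borel, ← Subgroup.index_eq_card] at h1
  intro hdvd
  exact not_dvd_card_torus p ((h1.dvd_iff dvd_rfl).2 hdvd)

end

end Cfsg.Agent.Lib.Helper5.SUBN
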