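import Mathlib
import Cfsg.Agent.Lib.Helper5.SpBN.AbsSt
import Cfsg.Agent.Lib.Helper5.SUBN.Syl
import Cfsg.Agent.Lib.Helper5.SUBN.Opp

set_option autoImplicit false

/-!
The Steinberg data of the unitary group of the antidiagonal Hermitian form.
-/

namespace Cfsg.Agent.Lib.Helper5.SUBN

open Matrix DoubleCoset Cfsg.Agent.Lib.Helper5.SpBN

section
variable {n : ℕ} {F : Type*} [Field F] [StarRing F] [SkewElt F]

/-- The Steinberg data of the unitary group. -/
noncomputable def uData (n : ℕ) (hn : 2 ≤ n) (F : Type*) [Field F] [StarRing F] [SkewElt F]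
    [Fintype F] (p : ℕ) [Fact p.Prime] [CharP F p] : StData (UGt n F) p where
  P := bnPair n F
  r := n / 2
  nrep := nrep n F
  n₀ := n0 n F hn
  U := unip n F
  T := torus n F
  hn := fun _ hj => nrep_mem_S hj
  hS := fun _ hs => exists_nrep_of_mem_S hs
  hn₀ := by
    intro j hj
    have hj' : 2 * j + 2 ≤ n := by omega
    obtain ⟨y, hy, hyw⟩ := (node n F j hj').exists_opp
    rw [nrep_of_le hj']
    exact ⟨y, hy, hyw _ (n0_isMono hn)⟩
  hU := unip_le_borel
  hT := torus_le_borel
  hd := unip_inf_torus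
  hB := fun _ hb => exists_unip_mul_torus hb
  hTiff := fun _ hβ => (n0_conj_mem_borel_iff hn hβ).symm
  hp := isPGroup_unip p
  hidx := not_dvd_index_unip p

end

end Cfsg.Agent.Lib.Helper5.SUBN
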