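import Mathlib
import Cfsg.Agent.Lib.Helper5.SUBN.Opp

set_option autoImplicit false

/-!
The isomorphism between the unitary group of the antidiagonal Hermitian form and the unitary
group of the standard Hermitian form, given a Witt basis of the standard form.
-/

namespace Cfsg.Agent.Lib.Helper5.SUBN

open Matrix

section
variable {n : ℕ} {F : Type*} [Field F] [StarRing F]

theorem antiMat_mul_apply (d : Fin n → F) (M : Matrix (Fin n) (Fin n) F) (a b : Fin n) :
    (antiMat d * M) a b = d a * M (th a) b := by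
  rw [Matrix.mul_apply, Finset.sum_eq_single (th a)]
  · rw [antiMat_apply, if_pos rfl]
  · intro c _ hc
    rw [antiMat_apply, if_neg (fun e => hc e.symm), zero_mul]
  · intro h
    exact absurd (Finset.mem_univ _) h

theorem mul_antiMat_apply (M : Matrix (Fin n) (Fin n) F) (d : Fin n → F) (a b : Fin n) :
    (M * antiMat d) a b = M a (th b) * d (th b) := by
  rw [Matrix.mul_apply, Finset.sum_eq_single (th b)]
  · rw [antiMat_apply, th_th, if_pos rfl]
  · intro c _ hc
    rw [antiMat_apply, if_neg, mul_zero]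
    intro e
    apply hc
    rw [← e, th_th]
  · intro h
    exact absurd (Finset.mem_univ _) h

/-- The matrix of the antidiagonal form. -/
def Jm (n : ℕ) (F : Type*) [Field F] : Matrix (Fin n) (Fin n) F := antiMat (fun _ => 1)

theorem Jm_apply (a b : Fin n) : Jm n F a b = if th a = b then 1 else 0 := antiMat_apply _ a b

theorem Jm_mul_Jm : Jm n F * Jm n F = 1 := by
  ext a b
  unfold Jm
  rw [antiMat_mul_apply, antiMat_apply, th_th, one_mul, Matrix.one_apply]

theorem Jm_conjTranspose : (Jm n F)ᴴ = Jm n F := by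
  ext a b
  rw [Matrix.conjTranspose_apply, Jm_apply, Jm_apply]
  by_cases h : th a = b
  · rw [if_pos h, if_pos (by rw [← h, th_th]), star_one]
  · rw [if_neg h, if_neg, star_zero]
    intro e
    apply h
    rw [← e, th_th]

theorem adj_eq (M : Matrix (Fin n) (Fin n) F) : adj M = Jm n F * Mᴴ * Jm n F := by
  ext a b
  unfold Jm
  rw [mul_antiMat_apply, antiMat_mul_apply, one_mul, mul_one, Matrix.conjTranspose_apply,
    adj_apply]

/-- The special unitary group of the standard Hermitian form. -/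
def stdU (n : ℕ) (F : Type*) [Field F] [StarRing F] :
    Subgroup (SpecialLinearGroup (Fin n) F) where
  carrier := {g | (g : Matrix (Fin n) (Fin n) F) * (g : Matrix (Fin n) (Fin n) F)ᴴ = 1}
  mul_mem' := by
    intro g h hg hh
    show ((g * h : SpecialLinearGroup (Fin n) F) : Matrix (Fin n) (Fin n) F) * _ᴴ = 1
    rw [Matrix.SpecialLinearGroup.coe_mul, Matrix.conjTranspose_mul, Matrix.mul_assoc,
      ← Matrix.mul_assoc (h : Matrix (Fin n) (Fin n) F), hh, Matrix.one_mul, hg]
  one_mem' := by
    show ((1 : SpecialLinearGroup (Fin n) F) : Matrix (Fin n) (Fin n) F) * _ᴴ = 1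
    rw [Matrix.SpecialLinearGroup.coe_one, Matrix.conjTranspose_one, Matrix.one_mul]
  inv_mem' := by
    intro g hg
    have hg' : (g : Matrix (Fin n) (Fin n) F) * (g : Matrix (Fin n) (Fin n) F)ᴴ = 1 := hg
    have h1 : ((g⁻¹ : SpecialLinearGroup (Fin n) F) : Matrix (Fin n) (Fin n) F)
        = (g : Matrix (Fin n) (Fin n) F)ᴴ := by
      have h2 : ((g⁻¹ : SpecialLinearGroup (Fin n) F) : Matrix (Fin n) (Fin n) F)
          * (g : Matrix (Fin n) (Fin n) F) = 1 := by
        rw [← Matrix.SpecialLinearGroup.coe_mul, inv_mul_cancel, Matrix.SpecialLinearGroup.coe_one]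
      calc ((g⁻¹ : SpecialLinearGroup (Fin n) F) : Matrix (Fin n) (Fin n) F)
          = ((g⁻¹ : SpecialLinearGroup (Fin n) F) : Matrix (Fin n) (Fin n) F)
            * ((g : Matrix (Fin n) (Fin n) F) * (g : Matrix (Fin n) (Fin n) F)ᴴ) := by
            rw [hg', Matrix.mul_one]
        _ = (g : Matrix (Fin n) (Fin n) F)ᴴ := by
            rw [← Matrix.mul_assoc, h2, Matrix.one_mul]
    show ((g⁻¹ : SpecialLinearGroup (Fin n) F) : Matrix (Fin n) (Fin n) F) * _ᴴ = 1
    rw [h1, Matrix.conjTranspose_conjTranspose]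
    exact mul_eq_one_comm.1 hg'

theorem mem_stdU (g : SpecialLinearGroup (Fin n) F) :
    g ∈ stdU n F ↔ (g : Matrix (Fin n) (Fin n) F) * (g : Matrix (Fin n) (Fin n) F)ᴴ = 1 :=
  Iff.rfl

/-- The isomorphism attached to a Witt basis of the standard form. -/
def toStd (E : Matrix (Fin n) (Fin n) F) (hE : Eᴴ * E = Jm n F) : UGt n F ≃* ↥(stdU n F) := by
  have h1 : (Jm n F * Eᴴ) * E = 1 := by rw [Matrix.mul_assoc, hE, Jm_mul_Jm]
  have h2 : E * (Jm n F * Eᴴ) = 1 := mul_eq_one_comm.1 h1
  have hdet : E.det * (Jm n F * Eᴴ).det = 1 := by rw [← Matrix.det_mul, h2, Matrix.det_one]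
  exact
  { toFun := fun g => ⟨⟨E * mat g * (Jm n F * Eᴴ), by
        rw [Matrix.det_mul, Matrix.det_mul, det_mat, mul_one, hdet]⟩, by
      show (E * mat g * (Jm n F * Eᴴ)) * (E * mat g * (Jm n F * Eᴴ))ᴴ = 1
      have h3 := mat_mul_adj g
      rw [adj_eq] at h3
      have h4 : mat g * Jm n F * (mat g)ᴴ = Jm n F := by
        calc mat g * Jm n F * (mat g)ᴴ
            = (mat g * (Jm n F * (mat g)ᴴ * Jm n F)) * Jm n F := by
              simp only [Matrix.mul_assoc, Jm_mul_Jm, Matrix.mul_one]
          _ = Jm n F := by rw [h3, Matrix.one_mul]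
      rw [Matrix.conjTranspose_mul, Matrix.conjTranspose_mul, Matrix.conjTranspose_mul,
        Matrix.conjTranspose_conjTranspose, Jm_conjTranspose]
      calc E * mat g * (Jm n F * Eᴴ) * (E * Jm n F * ((mat g)ᴴ * Eᴴ))
          = E * (mat g * (Jm n F * (Eᴴ * E) * Jm n F) * (mat g)ᴴ) * Eᴴ := by
            simp only [Matrix.mul_assoc]
        _ = E * (Jm n F * Eᴴ) := by
            rw [hE, Jm_mul_Jm, Matrix.one_mul, h4, Matrix.mul_assoc]
        _ = 1 := h2⟩
    invFun := fun h => mk ((Jm n F * Eᴴ) * (h : SpecialLinearGroup (Fin n) F).1 * E) (by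
        rw [Matrix.det_mul, Matrix.det_mul, (h : SpecialLinearGroup (Fin n) F).2, mul_one,
          mul_comm, hdet]) (by
      have h3 : (h : SpecialLinearGroup (Fin n) F).1 * ((h : SpecialLinearGroup (Fin n) F).1)ᴴ = 1 :=
        h.2
      rw [adj_eq, Matrix.conjTranspose_mul, Matrix.conjTranspose_mul, Matrix.conjTranspose_mul,
        Matrix.conjTranspose_conjTranspose, Jm_conjTranspose]
      calc Jm n F * Eᴴ * (h : SpecialLinearGroup (Fin n) F).1 * E
            * (Jm n F * (Eᴴ * (((h : SpecialLinearGroup (Fin n) F).1)ᴴ * (E * Jm n F))) * Jm n F)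
          = Jm n F * Eᴴ * ((h : SpecialLinearGroup (Fin n) F).1 * (E * (Jm n F * Eᴴ))
              * ((h : SpecialLinearGroup (Fin n) F).1)ᴴ) * E * (Jm n F * Jm n F) := by
            simp only [Matrix.mul_assoc]
        _ = 1 := by
            rw [h2, Matrix.mul_one, h3, Matrix.mul_one, Jm_mul_Jm, Matrix.mul_one, h1])
    left_inv := by
      intro g
      apply mat_injective
      rw [mat_mk]
      show Jm n F * Eᴴ * (E * mat g * (Jm n F * Eᴴ)) * E = mat g
      calc Jm n F * Eᴴ * (E * mat g * (Jm n F * Eᴴ)) * E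
          = (Jm n F * Eᴴ * E) * mat g * (Jm n F * Eᴴ * E) := by simp only [Matrix.mul_assoc]
        _ = mat g := by rw [h1, Matrix.one_mul, Matrix.mul_one]
    right_inv := by
      intro h
      apply Subtype.ext
      apply Subtype.ext
      show E * (Jm n F * Eᴴ * (h : SpecialLinearGroup (Fin n) F).1 * E) * (Jm n F * Eᴴ)
        = (h : SpecialLinearGroup (Fin n) F).1
      calc E * (Jm n F * Eᴴ * (h : SpecialLinearGroup (Fin n) F).1 * E) * (Jm n F * Eᴴ)
          = (E * (Jm n F * Eᴴ)) * (h : SpecialLinearGroup (Fin n) F).1 * (E * (Jm n F * Eᴴ)) := by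
            simp only [Matrix.mul_assoc]
        _ = (h : SpecialLinearGroup (Fin n) F).1 := by rw [h2, Matrix.one_mul, Matrix.mul_one]
    map_mul' := by
      intro g g'
      apply Subtype.ext
      apply Subtype.ext
      show E * mat (g * g') * (Jm n F * Eᴴ)
        = (E * mat g * (Jm n F * Eᴴ)) * (E * mat g' * (Jm n F * Eᴴ))
      rw [mat_mul]
      calc E * (mat g * mat g') * (Jm n F * Eᴴ)
          = E * mat g * 1 * mat g' * (Jm n F * Eᴴ) := by
            simp only [Matrix.mul_assoc, Matrix.one_mul]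
        _ = E * mat g * (Jm n F * Eᴴ) * (E * mat g' * (Jm n F * Eᴴ)) := by
            rw [← h1]
            simp only [Matrix.mul_assoc] }

end

end Cfsg.Agent.Lib.Helper5.SUBN
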