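import Mathlib
import Cfsg.Agent.Lib.Helper5.SUBN.Std

set_option autoImplicit false

/-!
A Witt basis of the standard Hermitian form.
-/

namespace Cfsg.Agent.Lib.Helper5.SUBN

open Matrix

section
variable {n : ℕ} {F : Type*} [Field F] [StarRing F]

theorem conjTranspose_antiMat (d : Fin n → F) :
    (antiMat d)ᴴ = antiMat (fun a => star (d (th a))) := by
  ext a b
  rw [Matrix.conjTranspose_apply, antiMat_apply, antiMat_apply]
  by_cases h : th a = b
  · rw [if_pos h, if_pos (by rw [← h, th_th]), h]
  · rw [if_neg h, if_neg, star_zero]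
    intro e
    apply h
    rw [← e, th_th]

/-- The diagonal entries of the Witt basis. -/
def wa (n : ℕ) (ζ' ν : F) (a : Fin n) : F := if th a < a then ν * ζ' else 1

/-- The antidiagonal entries of the Witt basis. -/
def wb (n : ℕ) (ζ ν : F) (a : Fin n) : F := if a < th a then ν else if th a < a then ζ else 0

/-- The matrix of the Witt basis. -/
def wittE (n : ℕ) (ζ ζ' ν : F) : Matrix (Fin n) (Fin n) F :=
  Matrix.diagonal (wa n ζ' ν) + antiMat (wb n ζ ν)

theorem wittE_apply (ζ ζ' ν : F) (a b : Fin n) :
    wittE n ζ ζ' ν a b = (if a = b then wa n ζ' ν a else 0) + (if th a = b then wb n ζ ν a else 0) := by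
  unfold wittE
  rw [Matrix.add_apply, Matrix.diagonal_apply, antiMat_apply]

theorem wittE_rel (ζ ζ' ν : F) (a b : Fin n) :
    ((wittE n ζ ζ' ν)ᴴ * wittE n ζ ζ' ν) a b
      = star (wa n ζ' ν a) * wittE n ζ ζ' ν a b
        + star (wb n ζ ν (th a)) * wittE n ζ ζ' ν (th a) b := by
  have e : (wittE n ζ ζ' ν)ᴴ = Matrix.diagonal (fun a => star (wa n ζ' ν a))
      + antiMat (fun a => star (wb n ζ ν (th a))) := by
    unfold wittE
    rw [Matrix.conjTranspose_add, Matrix.diagonal_conjTranspose, conjTranspose_antiMat]
    rfl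
  rw [e, Matrix.add_mul, Matrix.add_apply, Matrix.diagonal_mul, antiMat_mul_apply]

/-- The columns of the matrix form a Witt basis of the standard Hermitian form. -/
theorem wittE_spec (ζ ζ' ν : F) (hζ : ζ * star ζ = -1) (hζ' : ζ' * star ζ' = -1)
    (hν : ν * (1 + star ζ * ζ') = 1) :
    (wittE n ζ ζ' ν)ᴴ * wittE n ζ ζ' ν = Jm n F := by
  have hν' : star ν * (1 + ζ * star ζ') = 1 := by
    have := congrArg star hν
    simpa only [star_mul', star_add, star_one, star_star] using this
  ext a b
  rw [wittE_rel, wittE_apply, wittE_apply, th_th, Jm_apply]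
  rcases lt_trichotomy a (th a) with h | h | h
  · have h1 : ¬ th a < a := not_lt.2 h.le
    have hne : a ≠ th a := ne_of_lt h
    have e1 : wa n ζ' ν a = 1 := by unfold wa; rw [if_neg h1]
    have e2 : wb n ζ ν a = ν := by unfold wb; rw [if_pos h]
    have e3 : wa n ζ' ν (th a) = ν * ζ' := by unfold wa; rw [th_th, if_pos h]
    have e4 : wb n ζ ν (th a) = ζ := by unfold wb; rw [th_th, if_neg h1, if_pos h]
    rw [e1, e2, e3, e4]
    by_cases hab : a = b
    · have hb : ¬ th a = b := fun e => hne (hab.trans e.symm)
      simp only [if_pos hab, if_neg hb, star_one]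
      linear_combination hζ
    · by_cases hb : th a = b
      · simp only [if_neg hab, if_pos hb, star_one]
        linear_combination hν
      · simp only [if_neg hab, if_neg hb]
        ring
  · have h1 : ¬ th a < a := by rw [← h]; exact lt_irrefl _
    have h2 : ¬ a < th a := by rw [← h]; exact lt_irrefl _
    have e1 : wa n ζ' ν a = 1 := by unfold wa; rw [if_neg h1]
    have e2 : wb n ζ ν a = 0 := by unfold wb; rw [if_neg h2, if_neg h1]
    rw [← h, e1, e2]
    by_cases hab : a = b
    · rw [if_pos hab]
      simp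
    · rw [if_neg hab]
      simp
  · have h1 : ¬ a < th a := not_lt.2 h.le
    have hne : a ≠ th a := ne_of_gt h
    have e1 : wa n ζ' ν a = ν * ζ' := by unfold wa; rw [if_pos h]
    have e2 : wb n ζ ν a = ζ := by unfold wb; rw [if_neg h1, if_pos h]
    have e3 : wa n ζ' ν (th a) = 1 := by unfold wa; rw [th_th, if_neg h1]
    have e4 : wb n ζ ν (th a) = ν := by unfold wb; rw [th_th, if_pos h]
    rw [e1, e2, e3, e4]
    by_cases hab : a = b
    · have hb : ¬ th a = b := fun e => hne (hab.trans e.symm)
      simp only [if_pos hab, if_neg hb, star_mul']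
      linear_combination (star ν * ν) * hζ'
    · by_cases hb : th a = b
      · simp only [if_neg hab, if_pos hb, star_mul']
        linear_combination hν'
      · simp only [if_neg hab, if_neg hb]
        ring

end

end Cfsg.Agent.Lib.Helper5.SUBN
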