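import Mathlib
import Cfsg.Prelude.Def_Classical
import Cfsg.Agent.Lib.Helper2.Herm
import Cfsg.Agent.S0754
import Cfsg.Agent.Lib.Helper5.SUBN.USt
import Cfsg.Agent.Lib.Helper5.SUBN.Witt

set_option autoImplicit false

/-!
The Steinberg character of the special unitary group `SU_n(q)` and of the projective special
unitary group `PSU_n(q)`.
-/

namespace Cfsg.Agent.Lib.Helper5.SUBN

open Matrix Polynomial Cfsg.Agent.Lib.Helper2.Herm Cfsg.Agent.Lib.Helper5.SpBN

section
variable {F : Type*} [Field F] [Fintype F] {q : ℕ}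

theorem two_le_q' (hF : Fintype.card F = q ^ 2) : 2 ≤ q := by
  have h1 : 1 < Fintype.card F := Fintype.one_lt_card
  rw [hF] at h1
  by_contra h
  have : q = 0 ∨ q = 1 := by omega
  rcases this with rfl | rfl <;> simp at h1

/-- The involution `x ↦ x ^ q` of a field with `q ^ 2` elements. -/
@[reducible] def starQ (hF : Fintype.card F = q ^ 2) : StarRing F where
  star x := x ^ q
  star_involutive := fun x => pow_q_pow_q hF x
  star_mul := fun x y => by
    show (x * y) ^ q = y ^ q * x ^ q
    rw [mul_pow, mul_comm]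
  star_add := fun x y => add_pow_q hF x y

theorem exists_pow_q_ne (hF : Fintype.card F = q ^ 2) : ∃ c : F, c ^ q ≠ c := by
  by_contra hcon
  push_neg at hcon
  have hq := two_le_q' hF
  have h1 : (X ^ q - X : F[X]) = 0 := by
    apply Polynomial.eq_zero_of_natDegree_lt_card_of_eval_eq_zero' _ Finset.univ
    · intro i _
      simp [hcon i]
    · rw [FiniteField.X_pow_card_sub_X_natDegree_eq F (by omega), Finset.card_univ, hF]
      nlinarith
  exact FiniteField.X_pow_card_sub_X_ne_zero F (by omega) h1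

/-- A nonzero element negated by the involution. -/
noncomputable def skewQ (hF : Fintype.card F = q ^ 2) :
    @SkewElt F _ (starQ hF) :=
  letI := starQ hF
  { lam := Classical.choose (exists_pow_q_ne hF) - (Classical.choose (exists_pow_q_ne hF)) ^ q
    skew := by
      show (Classical.choose (exists_pow_q_ne hF) - (Classical.choose (exists_pow_q_ne hF)) ^ q) ^ q
        = -(Classical.choose (exists_pow_q_ne hF) - (Classical.choose (exists_pow_q_ne hF)) ^ q)
      have h1 : ∀ a b : F, (a - b) ^ q = a ^ q - b ^ q := by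
        intro a b
        have := add_pow_q hF (a - b) b
        rw [sub_add_cancel] at this
        rw [this]
        ring
      rw [h1, pow_q_pow_q hF]
      ring
    ne := by
      intro e
      exact Classical.choose_spec (exists_pow_q_ne hF) (sub_eq_zero.1 e).symm }

theorem neg_one_pow_q (hF : Fintype.card F = q ^ 2) : (-1 : F) ^ q = -1 := by
  have h := add_pow_q hF (1 : F) (-1)
  rw [add_neg_cancel, one_pow, zero_pow (by have := two_le_q' hF; omega)] at h
  linear_combination -h

/-- The parameters of a Witt basis of the standard Hermitian form. -/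
theorem exists_witt (hF : Fintype.card F = q ^ 2) :
    ∃ ζ ζ' ν : F, ζ * ζ ^ q = -1 ∧ ζ' * ζ' ^ q = -1 ∧ ν * (1 + ζ ^ q * ζ') = 1 := by
  have hq := two_le_q' hF
  have hcard := Cfsg.Agent.S0754.result hF (-1) (neg_ne_zero.2 one_ne_zero) (neg_one_pow_q hF)
  have hnt : Nontrivial {x : F // x ^ (q + 1) = -1} :=
    Finite.one_lt_card_iff_nontrivial.1 (by rw [hcard]; omega)
  obtain ⟨⟨ζ, hζ⟩, ⟨ζ', hζ'⟩, hne⟩ := exists_pair_ne {x : F // x ^ (q + 1) = -1}
  have hne' : ζ ≠ ζ' := fun e => hne (Subtype.ext e)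
  have hζ0 : ζ ^ q ≠ 0 := by
    intro e
    rw [pow_succ, e, zero_mul] at hζ
    exact one_ne_zero (neg_eq_zero.1 hζ.symm)
  have h0 : 1 + ζ ^ q * ζ' ≠ 0 := by
    intro e
    have h1 : ζ ^ q * (ζ' - ζ) = 0 := by
      rw [pow_succ] at hζ
      linear_combination e - hζ
    rcases mul_eq_zero.1 h1 with h | h
    · exact hζ0 h
    · exact hne' (sub_eq_zero.1 h).symm
  refine ⟨ζ, ζ', (1 + ζ ^ q * ζ')⁻¹, ?_, ?_, inv_mul_cancel₀ h0⟩
  · rw [← pow_succ']
    exact hζ
  · rw [← pow_succ']
    exact hζ'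

end

section
variable {n : ℕ} {F : Type*} [Field F] [Fintype F] {q : ℕ}

theorem herm_eq (hF : Fintype.card F = q ^ 2) (u v : Fin n → F) :
    letI := starQ hF
    Cfsg.hermForm n F q u v = u ⬝ᵥ star v := rfl

/-- The standard unitary group is the group of the statement. -/
theorem stdU_eq_SU (hF : Fintype.card F = q ^ 2) :
    @stdU n F _ (starQ hF) = Cfsg.SU n F q := by
  letI := starQ hF
  have key : ∀ (g : SpecialLinearGroup (Fin n) F) (u v : Fin n → F),
      Cfsg.hermForm n F q ((g : Matrix (Fin n) (Fin n) F) *ᵥ u)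
        ((g : Matrix (Fin n) (Fin n) F) *ᵥ v)
      = star v ⬝ᵥ (((g : Matrix (Fin n) (Fin n) F)ᴴ * (g : Matrix (Fin n) (Fin n) F)) *ᵥ u) := by
    intro g u v
    rw [herm_eq hF, Matrix.star_mulVec, dotProduct_comm, ← Matrix.dotProduct_mulVec,
      Matrix.mulVec_mulVec]
  ext g
  constructor
  · intro hg u v
    have hg' : (g : Matrix (Fin n) (Fin n) F)ᴴ * (g : Matrix (Fin n) (Fin n) F) = 1 :=
      mul_eq_one_comm.1 hg
    show Cfsg.hermForm n F q ((g : Matrix (Fin n) (Fin n) F) *ᵥ u)
        ((g : Matrix (Fin n) (Fin n) F) *ᵥ v) = Cfsg.hermForm n F q u v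
    rw [key, hg', Matrix.one_mulVec, herm_eq hF, dotProduct_comm]
  · intro hg
    have hg' : ∀ u v : Fin n → F, Cfsg.hermForm n F q ((g : Matrix (Fin n) (Fin n) F) *ᵥ u)
        ((g : Matrix (Fin n) (Fin n) F) *ᵥ v) = Cfsg.hermForm n F q u v := hg
    apply mul_eq_one_comm.1
    ext k j
    have h1 := hg' (Pi.single j 1) (Pi.single k 1)
    rw [key, herm_eq hF] at h1
    have hs : star (Pi.single k (1 : F) : Fin n → F) = Pi.single k 1 := by
      ext i
      rw [Pi.star_apply, Pi.single_apply]
      split_ifs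
      · exact star_one F
      · exact star_zero F
    rw [hs, single_one_dotProduct, Matrix.mulVec_single_one, dotProduct_comm,
      single_one_dotProduct, Matrix.col_apply, Pi.single_apply] at h1
    rw [h1, Matrix.one_apply]

/-- The Steinberg character of the projective special unitary group. -/
theorem exists_steinberg_PSU (p : ℕ) [Fact p.Prime] [CharP F p] (n q : ℕ) (hn : 2 ≤ n)
    (hF : Fintype.card F = q ^ 2) :
    ∃ χ : Cfsg.PSU n F q → ℂ, Cfsg.IsIrrCharacter (Cfsg.PSU n F q) χ ∧
      ∀ P : Sylow p (Cfsg.PSU n F q), χ 1 = Nat.card P ∧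
        ∀ x : Cfsg.PSU n F q, x ∈ P → x ≠ 1 → χ x = 0 := by
  letI : StarRing F := starQ hF
  letI : SkewElt F := skewQ hF
  obtain ⟨ζ, ζ', ν, h1, h2, h3⟩ := exists_witt hF
  have hE := wittE_spec (n := n) ζ ζ' ν h1 h2 h3
  have heq : stdU n F = Cfsg.SU n F q := stdU_eq_SU hF
  let e : UGt n F ≃* ↥(Cfsg.SU n F q) := (toStd _ hE).trans (MulEquiv.subgroupCongr heq)
  have hker : e.toMonoidHom.ker ≤ Subgroup.center (UGt n F) := by
    rw [(MonoidHom.ker_eq_bot_iff e.toMonoidHom).2 e.injective]
    exact bot_le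
  exact StData.exists_steinberg (((uData n hn F p).map e.toMonoidHom e.surjective hker).map
    (QuotientGroup.mk' (Subgroup.center ↥(Cfsg.SU n F q)))
    (QuotientGroup.mk'_surjective _) (by rw [QuotientGroup.ker_mk']))

end

end Cfsg.Agent.Lib.Helper5.SUBN
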